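import Mathlib

set_option linter.style.haveILetI false
set_option linter.unusedSectionVars false

/-! Flatness and colon ideals: if `B` is flat over `A` and `t • y ∈ I B` then `y ∈ (I : t) B`. -/

open TensorProduct

namespace Groth.Agent.H61.DefAlg

universe u v

variable {A : Type u} [CommRing A] {M : Type v} [AddCommGroup M] [Module A M]

/-- the colon ideal `(I : t)`. -/
def colon (I : Ideal A) (t : A) : Ideal A := Submodule.comap (LinearMap.mulLeft A t) I

lemma mem_colon (I : Ideal A) (t a : A) : a ∈ colon I t ↔ t * a ∈ I := Iff.rfl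

theorem one_tmul_eq_zero_iff (I : Ideal A) (m : M) :
    ((1 : A ⧸ I) ⊗ₜ[A] m = 0) ↔ m ∈ I • (⊤ : Submodule A M) := by
  rw [← (quotTensorEquivQuotSMul M I).map_eq_zero_iff, quotTensorEquivQuotSMul_mk_one_tmul,
    Submodule.Quotient.mk_eq_zero]

theorem mem_colon_smul_top_of_flat [Module.Flat A M] (I : Ideal A) (t : A) (y : M)
    (h : t • y ∈ I • (⊤ : Submodule A M)) : y ∈ colon I t • (⊤ : Submodule A M) := by
  let J := colon I t
  let μ : (A ⧸ J) →ₗ[A] (A ⧸ I) := Submodule.mapQ J I (LinearMap.mulLeft A t) (le_refl _)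
  have hμ : Function.Injective μ := by
    rw [← LinearMap.ker_eq_bot, eq_bot_iff]
    intro x hx
    obtain ⟨a, rfl⟩ := Submodule.Quotient.mk_surjective _ x
    rw [LinearMap.mem_ker, Submodule.mapQ_apply, Submodule.Quotient.mk_eq_zero] at hx
    rw [Submodule.mem_bot, Submodule.Quotient.mk_eq_zero]
    exact hx
  have hinj : Function.Injective (μ.rTensor M) :=
    Module.Flat.rTensor_preserves_injective_linearMap μ hμ
  rw [← one_tmul_eq_zero_iff]
  apply hinj
  rw [map_zero, LinearMap.rTensor_tmul]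
  have h1 : μ (1 : A ⧸ J) = t • (1 : A ⧸ I) := by
    change μ (Submodule.Quotient.mk 1) = t • (Submodule.Quotient.mk 1)
    rw [Submodule.mapQ_apply, ← Submodule.Quotient.mk_smul]
    simp
  rw [h1, TensorProduct.smul_tmul]
  exact (one_tmul_eq_zero_iff I _).mpr h

end Groth.Agent.H61.DefAlg
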