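import Mathlib
import Groth.Prelude.Def_ArtFun4
import Groth.Agent.H19.ComapAff
import Groth.Agent.H61.AffThick.DefAffine
import Groth.Agent.H61.Rigid.NilIso

set_option linter.style.haveILetI false
set_option linter.unusedSectionVars false

/-! Dictionary between deformations of an affine scheme (`ArtFun.DefSch`) and rings. -/

open AlgebraicGeometry CategoryTheory CategoryTheory.Limits Opposite TopologicalSpace

namespace Groth.Agent.H61.DefAlg

universe u

open ArtFun ArtFun.Art Groth.Agent.H61.AffThick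

variable {Λ : Type u} {k : Type u} [CommRing Λ] [Field k] [Algebra Λ k]
variable {X : Scheme.{u}} {x : X ⟶ specPt k} {A : Art Λ k}

/-- the structure ring map `A → Γ(total)` of a deformation. -/
noncomputable def DefSch.φ (ξ : DefSch X x A) : A →+* Γ(ξ.total, ⊤) :=
  ξ.f.appTop.hom.comp (Scheme.ΓSpecIso (CommRingCat.of A)).inv.hom

/-- kernel of `Γ(Spec A) → Γ(Spec k)` induced by the augmentation. -/
lemma ker_specRes_appTop (A : Art Λ k) :
    RingHom.ker (specRes A).appTop.hom =
      (IsLocalRing.maximalIdeal A).map (Scheme.ΓSpecIso (CommRingCat.of A)).inv.hom := by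
  have hnat := Scheme.ΓSpecIso_naturality (CommRingCat.ofHom A.res.toRingHom)
  ext z
  rw [RingHom.mem_ker]
  have hinj : Function.Injective (Scheme.ΓSpecIso (CommRingCat.of k)).hom.hom :=
    (ConcreteCategory.bijective_of_isIso (Scheme.ΓSpecIso (CommRingCat.of k)).hom).1
  have h1 : (Scheme.ΓSpecIso (CommRingCat.of k)).hom.hom ((specRes A).appTop.hom z) =
      A.res ((Scheme.ΓSpecIso (CommRingCat.of A)).hom.hom z) := by
    have := ConcreteCategory.congr_hom hnat z
    simp only [CommRingCat.comp_apply] at this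
    exact this
  have h2 : (specRes A).appTop.hom z = 0 ↔
      A.res ((Scheme.ΓSpecIso (CommRingCat.of A)).hom.hom z) = 0 := by
    rw [← h1]
    constructor
    · intro h; rw [h, map_zero]
    · intro h; exact hinj (h.trans (map_zero _).symm)
  rw [h2, ← mem_maximalIdeal_iff]
  constructor
  · intro h
    have := Ideal.mem_map_of_mem (Scheme.ΓSpecIso (CommRingCat.of A)).inv.hom h
    have h3 : (Scheme.ΓSpecIso (CommRingCat.of A)).inv.hom
        ((Scheme.ΓSpecIso (CommRingCat.of A)).hom.hom z) = z := by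
      have := ConcreteCategory.congr_hom (Scheme.ΓSpecIso (CommRingCat.of A)).hom_inv_id z
      simp only [CommRingCat.comp_apply] at this
      exact this
    rwa [h3] at this
  · intro h
    have h3 : (IsLocalRing.maximalIdeal A).map (Scheme.ΓSpecIso (CommRingCat.of A)).inv.hom ≤
        (IsLocalRing.maximalIdeal A).comap (Scheme.ΓSpecIso (CommRingCat.of A)).hom.hom := by
      rw [Ideal.map_le_iff_le_comap]
      intro a ha
      rw [Ideal.mem_comap, Ideal.mem_comap]
      have : (Scheme.ΓSpecIso (CommRingCat.of A)).hom.hom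
          ((Scheme.ΓSpecIso (CommRingCat.of A)).inv.hom a) = a := by
        have := ConcreteCategory.congr_hom (Scheme.ΓSpecIso (CommRingCat.of A)).inv_hom_id a
        simp only [CommRingCat.comp_apply] at this
        exact this
      rwa [this]
    exact h3 h


/-- (K) the kernel of `Γ(total) → Γ(X)` is `m_A · Γ(total)`. -/
theorem DefSch.ker_i_appTop [IsAffine X] (ξ : DefSch X x A) :
    RingHom.ker ξ.i.appTop.hom = (IsLocalRing.maximalIdeal A).map (DefSch.φ ξ) := by
  haveI := DefSch.isAffine_total ξ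
  haveI := DefSch.isClosedImmersion_i ξ
  haveI := isClosedImmersion_specRes A
  have h1 : ξ.i.ker = (specRes A).ker.comap ξ.f := ker_eq_comap_of_isPullback ξ.isPullback
  have h2 := congrArg (fun K => K.ideal ⟨⊤, isAffineOpen_top ξ.total⟩) h1
  simp only at h2
  rw [Scheme.Hom.ker_apply, Groth.Agent.H19.ComapAff.ideal_comap_top, Scheme.Hom.ker_apply] at h2
  have h3 : RingHom.ker ((specRes A).app ⊤).hom =
      (IsLocalRing.maximalIdeal A).map (Scheme.ΓSpecIso (CommRingCat.of A)).inv.hom :=
    ker_specRes_appTop A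
  rw [h3, Ideal.map_map] at h2
  exact h2

theorem DefSch.i_appTop_surjective [IsAffine X] (ξ : DefSch X x A) :
    Function.Surjective ξ.i.appTop.hom := by
  haveI := DefSch.isAffine_total ξ
  haveI := DefSch.isClosedImmersion_i ξ
  exact ξ.i.app_surjective ⊤ (isAffineOpen_top _)


lemma DefSch.φ_flat [IsAffine X] (ξ : DefSch X x A) : (DefSch.φ ξ).Flat := by
  haveI := DefSch.isAffine_total ξ
  have h1 : ξ.f.appTop.hom.Flat := Scheme.Hom.flat_appTop ξ.f
  have h2 : (Scheme.ΓSpecIso (CommRingCat.of A)).inv.hom.Flat :=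
    RingHom.Flat.of_bijective (ConcreteCategory.bijective_of_isIso _)
  exact RingHom.Flat.comp h2 h1

lemma exists_nilpotent_maximalIdeal (A : Art Λ k) : IsNilpotent (IsLocalRing.maximalIdeal A) := by
  have := IsArtinianRing.isNilpotent_jacobson_bot (R := A)
  rwa [IsLocalRing.jacobson_eq_maximalIdeal ⊥ bot_ne_top] at this

/-- (M) every morphism of deformations of an affine scheme over an Artinian base is an
isomorphism. -/
theorem DefSch.isIso_of_hom [IsAffine X] {ξ ξ' : DefSch X x A} (ψ : ξ.total ⟶ ξ'.total)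
    (hf : ψ ≫ ξ'.f = ξ.f) (hi : ξ.i ≫ ψ = ξ'.i) : IsIso ψ := by
  haveI := DefSch.isAffine_total ξ
  haveI := DefSch.isAffine_total ξ'
  have key : Function.Bijective ψ.appTop.hom := by
    letI : Algebra A Γ(ξ.total, ⊤) := (DefSch.φ ξ).toAlgebra
    letI : Algebra A Γ(ξ'.total, ⊤) := (DefSch.φ ξ').toAlgebra
    haveI : Module.Flat A Γ(ξ.total, ⊤) := DefSch.φ_flat ξ
    have hφ : ∀ a : A, ψ.appTop.hom (DefSch.φ ξ' a) = DefSch.φ ξ a := by
      intro a
      have h1 : ξ'.f.appTop ≫ ψ.appTop = ξ.f.appTop := by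
        rw [← Scheme.Hom.comp_appTop, hf]
      have h2 := ConcreteCategory.congr_hom h1 ((Scheme.ΓSpecIso (CommRingCat.of A)).inv.hom a)
      exact h2
    have hπ : ∀ r', ξ.i.appTop.hom (ψ.appTop.hom r') = ξ'.i.appTop.hom r' := by
      intro r'
      have h1 : ψ.appTop ≫ ξ.i.appTop = ξ'.i.appTop := by
        rw [← Scheme.Hom.comp_appTop, hi]
      exact ConcreteCategory.congr_hom h1 r'
    let flin : Γ(ξ'.total, ⊤) →ₗ[A] Γ(ξ.total, ⊤) :=
      { toFun := ψ.appTop.hom
        map_add' := map_add _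
        map_smul' := fun a r' => by
          change ψ.appTop.hom (DefSch.φ ξ' a * r') = DefSch.φ ξ a * ψ.appTop.hom r'
          rw [map_mul, hφ] }
    have hmem : ∀ r : Γ(ξ.total, ⊤), r ∈ IsLocalRing.maximalIdeal A • (⊤ : Submodule A Γ(ξ.total, ⊤)) ↔
        ξ.i.appTop.hom r = 0 := by
      intro r
      rw [Ideal.smul_top_eq_map, Submodule.restrictScalars_mem, ← RingHom.mem_ker,
        DefSch.ker_i_appTop]
      rfl
    have hmem' : ∀ r : Γ(ξ'.total, ⊤),
        r ∈ IsLocalRing.maximalIdeal A • (⊤ : Submodule A Γ(ξ'.total, ⊤)) ↔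
        ξ'.i.appTop.hom r = 0 := by
      intro r
      rw [Ideal.smul_top_eq_map, Submodule.restrictScalars_mem, ← RingHom.mem_ker,
        DefSch.ker_i_appTop]
      rfl
    refine Groth.Agent.H61.Rigid.bijective_of_bijective_mod_nilpotent (IsLocalRing.maximalIdeal A)
      (exists_nilpotent_maximalIdeal A) flin ?_ ?_
    · intro r
      obtain ⟨r', hr'⟩ := DefSch.i_appTop_surjective ξ' (ξ.i.appTop.hom r)
      refine ⟨r', ?_⟩
      rw [hmem, map_sub]
      change _ - ξ.i.appTop.hom (ψ.appTop.hom r') = 0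
      rw [hπ, hr', sub_self]
    · intro r' hr'
      rw [hmem'] 
      rw [hmem] at hr'
      rw [← hπ]
      exact hr'
  have h1 : IsIso ψ.appTop := (ConcreteCategory.isIso_iff_bijective _).mpr key
  have h2 := (HasAffineProperty.iff_of_isAffine (P := MorphismProperty.isomorphisms Scheme)
    (f := ψ)).mpr ⟨inferInstance, h1⟩
  exact h2

end Groth.Agent.H61.DefAlg
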