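import Mathlib
import Groth.Prelude.Def_Exal

set_option linter.style.haveILetI false
set_option linter.unusedSectionVars false

/-! If every extension of `B₀` by `B₀` is trivial, algebra maps out of `B₀` lift along square-zero
surjections whose kernel is (compatibly) isomorphic to `B₀`. -/

namespace Groth.Agent.H61.DefAlg

universe u

variable {k : Type u} [CommRing k] {B₀ : Type u} [CommRing B₀] [Algebra k B₀]
  {E E' : Type u} [CommRing E] [Algebra k E] [CommRing E'] [Algebra k E']

theorem exists_lift_of_exal_trivial (hT : ∀ X : Exal.Ext k B₀ B₀, X.IsTrivial)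
    (p : E →ₐ[k] E') (hp : Function.Surjective p)
    (u : B₀ →ₐ[k] E') (j : B₀ →+ E) (hj0 : ∀ x, p (j x) = 0)
    (hjsurj : ∀ y, p y = 0 → ∃ x, j x = y) (hjinj : Function.Injective j)
    (hcompat : ∀ (b : B₀) (x : B₀) (e : E), p e = u b → e * j x = j (b * x)) :
    ∃ v : B₀ →ₐ[k] E, ∀ b, p (v b) = u b := by
  -- the pulled back extension
  let S : Subalgebra k (E × B₀) :=
    AlgHom.equalizer (p.comp (AlgHom.fst k E B₀)) (u.comp (AlgHom.snd k E B₀))
  have hS : ∀ z : E × B₀, z ∈ S ↔ p z.1 = u z.2 := fun z => Iff.rfl
  let proj : S →ₐ[k] B₀ := (AlgHom.snd k E B₀).comp S.val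
  let incl : B₀ →+ S :=
    { toFun := fun x => ⟨(j x, 0), by rw [hS]; simp [hj0]⟩
      map_zero' := by ext <;> simp
      map_add' := fun a b => by ext <;> simp }
  let X : Exal.Ext k B₀ B₀ :=
    { E := S
      proj := proj
      incl := incl
      isExtension :=
        { proj_surjective := fun b => by
            obtain ⟨e, he⟩ := hp (u b)
            exact ⟨⟨(e, b), (hS _).mpr he⟩, rfl⟩
          incl_injective := fun a b hab => by
            apply hjinj
            exact congrArg (fun z : S => (z : E × B₀).1) hab
          exact := fun z => by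
            constructor
            · intro hz
              have hz2 : (z : E × B₀).2 = 0 := hz
              have hz1 : p (z : E × B₀).1 = 0 := by
                rw [(hS _).mp z.2, hz2, map_zero]
              obtain ⟨x, hx⟩ := hjsurj _ hz1
              refine ⟨x, ?_⟩
              apply Subtype.ext
              apply Prod.ext
              · exact hx
              · exact hz2.symm
            · rintro ⟨x, rfl⟩
              rfl
          mul_incl := fun z x => by
            apply Subtype.ext
            apply Prod.ext
            · change (z : E × B₀).1 * j x = j ((z : E × B₀).2 * x)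
              exact hcompat _ _ _ ((hS _).mp z.2)
            · change (z : E × B₀).2 * 0 = 0
              exact mul_zero _ } }
  obtain ⟨s, hs⟩ := hT X
  refine ⟨((AlgHom.fst k E B₀).comp S.val).comp s, fun b => ?_⟩
  have h1 : p ((s b : S) : E × B₀).1 = u ((s b : S) : E × B₀).2 := (hS _).mp (s b).2
  have h2 : ((s b : S) : E × B₀).2 = b := hs b
  rw [h2] at h1
  exact h1

end Groth.Agent.H61.DefAlg
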