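import Mathlib
import Groth.Agent.H61.DefAlg.LiftExal
import Groth.Agent.H61.DefAlg.FlatColon
import Groth.Agent.H27.NilpFin

set_option linter.style.haveILetI false
set_option linter.unusedSectionVars false

/-! Ring-level rigidity: a flat deformation `B` of `B₀` over an Artinian local ring admits a
`k`-algebra section `B₀ → B` when all extensions of `B₀` by `B₀` are trivial. -/

namespace Groth.Agent.H61.DefAlg

universe u

variable {k : Type u} [Field k] {A : Type u} [CommRing A] [Algebra k A] [IsLocalRing A]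
  {B : Type u} [CommRing B] [Algebra A B] [Algebra k B] [IsScalarTower k A B]
  {B₀ : Type u} [CommRing B₀] [Algebra k B₀]
  (π : B →ₐ[k] B₀)

local notation "φ" => algebraMap A B

/-- existence of a section modulo `I B`. -/
def HasSec (I : Ideal A) : Prop :=
  ∃ v : B₀ →ₐ[k] B ⧸ I.map (algebraMap A B), ∀ b₀ b, v b₀ = Ideal.Quotient.mk _ b → π b = b₀

variable (hπ : Function.Surjective π)
  (hker : RingHom.ker π.toRingHom = (IsLocalRing.maximalIdeal A).map (algebraMap A B))
  (hT : ∀ X : Exal.Ext k B₀ B₀, X.IsTrivial)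

include hπ hker in
lemma hasSec_maximalIdeal : HasSec (A := A) π (IsLocalRing.maximalIdeal A) := by
  have hker' : RingHom.ker π = (IsLocalRing.maximalIdeal A).map (algebraMap A B) := hker
  let e : (B ⧸ RingHom.ker π) ≃ₐ[k] B₀ := Ideal.quotientKerAlgEquivOfSurjective hπ
  let e' : (B ⧸ (IsLocalRing.maximalIdeal A).map (algebraMap A B)) ≃ₐ[k] (B ⧸ RingHom.ker π) :=
    Ideal.quotientEquivAlgOfEq k hker'.symm
  refine ⟨(e.symm.trans e'.symm).toAlgHom, ?_⟩
  intro b₀ b h
  have h1 : e'.symm (e.symm b₀) = Ideal.Quotient.mk _ b := h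
  have h2 : e.symm b₀ = e' (Ideal.Quotient.mk _ b) := by
    rw [← h1, AlgEquiv.apply_symm_apply]
  have h3 : e' (Ideal.Quotient.mk _ b) = Ideal.Quotient.mk _ b := rfl
  rw [h3] at h2
  have h4 : b₀ = e (Ideal.Quotient.mk _ b) := by
    rw [← h2, AlgEquiv.apply_symm_apply]
  rw [h4]
  rfl


include hπ hker hT in
theorem hasSec_step [Module.Flat A B] (I' I : Ideal A) (t : A) (hI : I = I' ⊔ Ideal.span {t})
    (hmt : ∀ a ∈ IsLocalRing.maximalIdeal A, a * t ∈ I')
    (ht : t ∉ I') (h : HasSec π I) : HasSec π I' := by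
  obtain ⟨v, hv⟩ := h
  have hI'I : I' ≤ I := by rw [hI]; exact le_sup_left
  have htI : t ∈ I := by rw [hI]; exact Ideal.mem_sup_right (Ideal.subset_span rfl)
  have hle : I'.map φ ≤ I.map φ := Ideal.map_mono hI'I
  let p : (B ⧸ I'.map φ) →ₐ[k] (B ⧸ I.map φ) := Ideal.Quotient.factorₐ k hle
  have hp : Function.Surjective p := Ideal.Quotient.factor_surjective hle
  have hpmk : ∀ b, p (Ideal.Quotient.mk _ b) = Ideal.Quotient.mk _ b := fun b => rfl
  have hkill : ∀ y, π y = 0 → φ t * y ∈ I'.map φ := by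
    intro y hy
    have hy' : y ∈ (IsLocalRing.maximalIdeal A).map φ := by rw [← hker]; exact hy
    have h1 : φ t * y ∈ (Ideal.span {t}).map φ * (IsLocalRing.maximalIdeal A).map φ :=
      Ideal.mul_mem_mul (Ideal.mem_map_of_mem φ (Ideal.subset_span rfl)) hy'
    rw [← Ideal.map_mul] at h1
    refine Ideal.map_mono ?_ h1
    rw [Ideal.span_singleton_mul_le_iff]
    intro z hz
    rw [mul_comm]
    exact hmt z hz
  let σ := Function.surjInv hπ
  have hσ : ∀ b₀, π (σ b₀) = b₀ := Function.surjInv_eq hπ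
  let jf : B₀ → B ⧸ I'.map φ := fun b₀ => Ideal.Quotient.mk _ (φ t * σ b₀)
  have hjf : ∀ y, jf (π y) = Ideal.Quotient.mk _ (φ t * y) := by
    intro y
    change Ideal.Quotient.mk _ (φ t * σ (π y)) = _
    rw [Ideal.Quotient.eq, ← mul_sub]
    apply hkill
    rw [map_sub, hσ, sub_self]
  let j : B₀ →+ B ⧸ I'.map φ :=
    { toFun := jf
      map_zero' := by rw [← map_zero π, hjf, mul_zero, map_zero]
      map_add' := fun a b => by
        obtain ⟨ya, rfl⟩ := hπ a
        obtain ⟨yb, rfl⟩ := hπ b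
        rw [← map_add, hjf, hjf, hjf, mul_add, map_add] }
  have hj : ∀ y, j (π y) = Ideal.Quotient.mk _ (φ t * y) := hjf
  have hj0 : ∀ x, p (j x) = 0 := by
    intro x
    obtain ⟨y, rfl⟩ := hπ x
    rw [hj, hpmk, Ideal.Quotient.eq_zero_iff_mem]
    exact Ideal.mul_mem_right _ _ (Ideal.mem_map_of_mem φ htI)
  have hjsurj : ∀ e, p e = 0 → ∃ x, j x = e := by
    intro e he
    obtain ⟨b, rfl⟩ := Ideal.Quotient.mk_surjective e
    rw [hpmk, Ideal.Quotient.eq_zero_iff_mem, hI, Ideal.map_sup, Ideal.map_span,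
      Set.image_singleton] at he
    obtain ⟨b', hb', c, hc, rfl⟩ := Submodule.mem_sup.mp he
    obtain ⟨y, rfl⟩ := Ideal.mem_span_singleton'.mp hc
    refine ⟨π y, ?_⟩
    rw [hj, Ideal.Quotient.eq]
    have : φ t * y - (b' + y * φ t) = -b' := by ring
    rw [this]
    exact neg_mem hb'
  have hjinj : Function.Injective j := by
    rw [injective_iff_map_eq_zero]
    intro x hx
    obtain ⟨y, rfl⟩ := hπ x
    rw [hj, Ideal.Quotient.eq_zero_iff_mem] at hx
    have h1 : t • y ∈ I' • (⊤ : Submodule A B) := by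
      rw [Ideal.smul_top_eq_map, Submodule.restrictScalars_mem, Algebra.smul_def]
      exact hx
    have h2 := mem_colon_smul_top_of_flat I' t y h1
    have h3 : colon I' t ≤ IsLocalRing.maximalIdeal A := by
      apply IsLocalRing.le_maximalIdeal
      intro htop
      have : (1 : A) ∈ colon I' t := by rw [htop]; trivial
      rw [mem_colon, mul_one] at this
      exact ht this
    have h4 : y ∈ (IsLocalRing.maximalIdeal A) • (⊤ : Submodule A B) :=
      Submodule.smul_mono_left h3 h2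
    rw [Ideal.smul_top_eq_map, Submodule.restrictScalars_mem] at h4
    have : y ∈ RingHom.ker π.toRingHom := by rw [hker]; exact h4
    exact this
  have hcompat : ∀ (b₀ x : B₀) (e : B ⧸ Ideal.map φ I'), p e = v b₀ → e * j x = j (b₀ * x) := by
    intro b₀ x e he
    obtain ⟨c, rfl⟩ := Ideal.Quotient.mk_surjective e
    obtain ⟨y, rfl⟩ := hπ x
    have hc : π c = b₀ := hv b₀ c (he.symm.trans (hpmk c))
    rw [hj, ← hc, ← map_mul π c y, hj, ← map_mul (Ideal.Quotient.mk _)]
    congr 1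
    ring
  obtain ⟨v', hv'⟩ := exists_lift_of_exal_trivial hT p hp v j hj0 hjsurj hjinj hcompat
  refine ⟨v', fun b₀ b hb => ?_⟩
  apply hv b₀ b
  rw [← hv', hb]
  exact hpmk b

include hπ hker hT in
theorem hasSec_bot [IsArtinianRing A] [Module.Flat A B] : HasSec (A := A) π (⊥ : Ideal A) := by
  classical
  let 𝒮 : Set (Ideal A) := {I | I ≤ IsLocalRing.maximalIdeal A ∧ HasSec π I}
  have hne : 𝒮.Nonempty := ⟨IsLocalRing.maximalIdeal A, le_refl _, hasSec_maximalIdeal π hπ hker⟩
  obtain ⟨I, ⟨hIm, hIS⟩, hmin⟩ := IsArtinian.set_has_minimal 𝒮 hne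
  suffices hI0 : I = ⊥ by rw [← hI0]; exact hIS
  by_contra hbot
  have hnil : IsNilpotent (IsLocalRing.maximalIdeal A) := by
    have := IsArtinianRing.isNilpotent_jacobson_bot (R := A)
    rwa [IsLocalRing.jacobson_eq_maximalIdeal ⊥ bot_ne_top] at this
  have hlt : IsLocalRing.maximalIdeal A * I < I := by
    refine lt_of_le_of_ne Ideal.mul_le_right ?_
    intro heq
    apply hbot
    rw [eq_bot_iff]
    refine Groth.Agent.H27.NilpFin.le_of_le_sup_smul_of_isNilpotent (IsLocalRing.maximalIdeal A) hnil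
      (I : Submodule A A) ⊥ ?_
    rw [bot_sup_eq, smul_eq_mul, heq]
  let 𝒯 : Set (Ideal A) := {J | IsLocalRing.maximalIdeal A * I ≤ J ∧ J < I}
  have hne' : 𝒯.Nonempty := ⟨_, le_refl _, hlt⟩
  obtain ⟨I', ⟨hmI', hI'I⟩, hmax⟩ := set_has_maximal_iff_noetherian.mpr
    (inferInstance : IsNoetherian A A) 𝒯 hne'
  obtain ⟨t, htI, htI'⟩ := SetLike.exists_of_lt hI'I
  have hle : I' ⊔ Ideal.span {t} ≤ I :=
    sup_le hI'I.le ((Ideal.span_singleton_le_iff_mem I).mpr htI)
  have hlt' : I' < I' ⊔ Ideal.span {t} := by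
    refine lt_of_le_of_ne le_sup_left ?_
    intro heq
    apply htI'
    rw [heq]
    exact Ideal.mem_sup_right (Ideal.subset_span rfl)
  have heq : I = I' ⊔ Ideal.span {t} := by
    by_contra hne2
    have : I' ⊔ Ideal.span {t} < I := lt_of_le_of_ne hle (Ne.symm hne2)
    exact hmax _ ⟨hmI'.trans le_sup_left, this⟩ hlt'
  have hmt : ∀ a ∈ IsLocalRing.maximalIdeal A, a * t ∈ I' :=
    fun a ha => hmI' (Ideal.mul_mem_mul ha htI)
  have hS' : HasSec π I' := hasSec_step π hπ hker hT I' I t heq hmt htI' hIS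
  exact hmin I' ⟨hI'I.le.trans hIm, hS'⟩ hI'I

include hπ hker hT in
/-- **Ring-level rigidity (existence of a section).** -/
theorem exists_section [IsArtinianRing A] [Module.Flat A B] :
    ∃ s : B₀ →ₐ[k] B, ∀ b₀, π (s b₀) = b₀ := by
  obtain ⟨v, hv⟩ := hasSec_bot (A := A) π hπ hker hT
  let e : (B ⧸ (⊥ : Ideal A).map φ) ≃ₐ[k] B :=
    (Ideal.quotientEquivAlgOfEq k (Ideal.map_bot (f := φ))).trans (AlgEquiv.quotientBot k B)
  have he : ∀ b, e (Ideal.Quotient.mk _ b) = b := fun b => rfl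
  refine ⟨e.toAlgHom.comp v, fun b₀ => ?_⟩
  apply hv b₀
  apply e.injective
  rw [he]
  rfl

end Groth.Agent.H61.DefAlg
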