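import Mathlib
import Groth.Prelude.Def_ArtFun4
import Groth.Agent.H61.DefAlg.Dict
import Groth.Agent.H61.DefAlg.Section

set_option linter.style.haveILetI false
set_option linter.unusedSectionVars false

/-! Rigidity: if all extensions of `B₀` by `B₀` are trivial, every deformation of `Spec B₀` over an
Artinian local `k`-algebra is trivial. -/

open AlgebraicGeometry CategoryTheory CategoryTheory.Limits Opposite TopologicalSpace

namespace Groth.Agent.H61.DefAlg

universe u

open ArtFun ArtFun.Art Groth.Agent.H61.AffThick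

variable {k : Type u} [Field k] (B₀ : Type u) [CommRing B₀] [Algebra k B₀]

/-- a retraction of the closed fibre gives an isomorphism with the trivial deformation. -/
theorem nonempty_iso_trivial_of_retraction {X : Scheme.{u}} [IsAffine X] {x : X ⟶ specPt k}
    (hx : Flat x) {A : Art k k} (ξ : DefSch X x A) (r : ξ.total ⟶ X) (hr : ξ.i ≫ r = 𝟙 X)
    (hrx : r ≫ x = ξ.f ≫ specMap (ofBase A)) :
    Nonempty (ξ.Iso (DefSch.trivial X x hx A)) := by
  let ψ : ξ.total ⟶ pullback x (specMap (ofBase A)) := pullback.lift r ξ.f hrx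
  have hf : ψ ≫ pullback.snd x (specMap (ofBase A)) = ξ.f := pullback.lift_snd _ _ _
  have hw : 𝟙 X ≫ x = (x ≫ specRes A) ≫ specMap (ofBase A) := by
    rw [Category.assoc, specRes_comp, Category.id_comp, comp_specRes_base]
  have hi : ξ.i ≫ ψ = pullback.lift (𝟙 X) (x ≫ specRes A) hw := by
    apply pullback.hom_ext
    · rw [Category.assoc, pullback.lift_fst, hr, pullback.lift_fst]
    · rw [Category.assoc, pullback.lift_snd, ξ.i_f, pullback.lift_snd]
  have hf' : ψ ≫ (DefSch.trivial X x hx A).f = ξ.f := hf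
  have hi' : ξ.i ≫ ψ = (DefSch.trivial X x hx A).i := hi
  have hiso := DefSch.isIso_of_hom (ξ' := DefSch.trivial X x hx A) ψ hf' hi'
  exact ⟨⟨@asIso _ _ _ _ ψ hiso, hf', hi'⟩⟩


/-- compatibility of `Γ(total) → Γ(Spec B₀)` with the structure maps. -/
lemma DefSch.i_appTop_φ {A : Art k k}
    (ξ : DefSch (Spec (CommRingCat.of B₀)) (Spec.map (CommRingCat.ofHom (algebraMap k B₀))) A)
    (a : A) : ξ.i.appTop.hom (DefSch.φ ξ a) =
      (Scheme.ΓSpecIso (CommRingCat.of B₀)).inv.hom (algebraMap k B₀ (A.res a)) := by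
  have h1 : ξ.f.appTop ≫ ξ.i.appTop = (specRes A).appTop ≫
      (Spec.map (CommRingCat.ofHom (algebraMap k B₀))).appTop := by
    rw [← Scheme.Hom.comp_appTop, ← Scheme.Hom.comp_appTop, ξ.i_f]
  have h2 := ConcreteCategory.congr_hom h1 ((Scheme.ΓSpecIso (CommRingCat.of A)).inv.hom a)
  have h3 := ConcreteCategory.congr_hom
    (Scheme.ΓSpecIso_inv_naturality (CommRingCat.ofHom A.res.toRingHom)) a
  have h4 := ConcreteCategory.congr_hom
    (Scheme.ΓSpecIso_inv_naturality (CommRingCat.ofHom (algebraMap k B₀))) (A.res a)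
  simp only [CommRingCat.comp_apply] at h2 h3 h4
  change ξ.i.appTop.hom (ξ.f.appTop.hom _) = _
  rw [h2]
  erw [← h3]
  exact h4.symm

/-- **Rigidity.** -/
theorem nonempty_iso_trivial_of_exal_trivial (hT : ∀ E : Exal.Ext k B₀ B₀, E.IsTrivial)
    (A : Art k k) (hx : Flat (Spec.map (CommRingCat.ofHom (algebraMap k B₀))))
    (ξ : DefSch (Spec (CommRingCat.of B₀)) (Spec.map (CommRingCat.ofHom (algebraMap k B₀))) A) :
    Nonempty (ξ.Iso (DefSch.trivial (Spec (CommRingCat.of B₀))
      (Spec.map (CommRingCat.ofHom (algebraMap k B₀))) hx A)) := by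
  letI algA : Algebra A Γ(ξ.total, ⊤) := (DefSch.φ ξ).toAlgebra
  letI algk : Algebra k Γ(ξ.total, ⊤) := ((DefSch.φ ξ).comp (algebraMap k A)).toAlgebra
  haveI : IsScalarTower k A Γ(ξ.total, ⊤) := IsScalarTower.of_algebraMap_eq (fun c => rfl)
  haveI : Module.Flat A Γ(ξ.total, ⊤) := DefSch.φ_flat ξ
  let e := Scheme.ΓSpecIso (CommRingCat.of B₀)
  have he1 : ∀ b, e.hom.hom (e.inv.hom b) = b := fun b => by
    have := ConcreteCategory.congr_hom e.inv_hom_id b
    simp only [CommRingCat.comp_apply] at this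
    exact this
  have hebij : Function.Bijective e.hom.hom := ConcreteCategory.bijective_of_isIso e.hom
  let πr : Γ(ξ.total, ⊤) →+* B₀ := e.hom.hom.comp ξ.i.appTop.hom
  have hπk : ∀ c : k, πr (algebraMap k Γ(ξ.total, ⊤) c) = algebraMap k B₀ c := by
    intro c
    change e.hom.hom (ξ.i.appTop.hom (DefSch.φ ξ (algebraMap k A c))) = _
    rw [DefSch.i_appTop_φ, he1, AlgHom.commutes]
    rfl
  let π : Γ(ξ.total, ⊤) →ₐ[k] B₀ := { πr with commutes' := hπk }
  have hπ : Function.Surjective π := hebij.surjective.comp (DefSch.i_appTop_surjective ξ)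
  have hker : RingHom.ker π.toRingHom =
      (IsLocalRing.maximalIdeal A).map (algebraMap A Γ(ξ.total, ⊤)) := by
    have : RingHom.ker π.toRingHom = RingHom.ker ξ.i.appTop.hom := by
      ext z
      rw [RingHom.mem_ker, RingHom.mem_ker]
      change e.hom.hom (ξ.i.appTop.hom z) = 0 ↔ _
      constructor
      · intro h; exact hebij.injective (h.trans (map_zero _).symm)
      · intro h; rw [h, map_zero]
    rw [this, DefSch.ker_i_appTop]
    rfl
  obtain ⟨s, hs⟩ := exists_section (A := A) π hπ hker hT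
  let s' : CommRingCat.of B₀ ⟶ Γ(ξ.total, ⊤) := CommRingCat.ofHom s.toRingHom
  let r : ξ.total ⟶ Spec (CommRingCat.of B₀) := ξ.total.toSpecΓ ≫ Spec.map s'
  refine nonempty_iso_trivial_of_retraction hx ξ r ?_ ?_
  · -- retraction
    have h1 : s' ≫ ξ.i.appTop = e.inv := by
      ext b
      apply hebij.injective
      change e.hom.hom (ξ.i.appTop.hom (s b)) = e.hom.hom (e.inv.hom b)
      rw [he1]
      exact hs b
    change ξ.i ≫ ξ.total.toSpecΓ ≫ Spec.map s' = 𝟙 _
    rw [Scheme.toSpecΓ_naturality_assoc, ← Spec.map_comp, h1]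
    exact toSpecΓ_SpecMap_ΓSpecIso_inv _
  · -- over `Spec k`
    have h1 : CommRingCat.ofHom (algebraMap k B₀) ≫ s' =
        CommRingCat.ofHom (algebraMap k A) ≫ (Scheme.ΓSpecIso (CommRingCat.of A)).inv ≫
          ξ.f.appTop := by
      ext c
      change s (algebraMap k B₀ c) = _
      rw [AlgHom.commutes]
      rfl
    change (ξ.total.toSpecΓ ≫ Spec.map s') ≫ Spec.map (CommRingCat.ofHom (algebraMap k B₀)) =
      ξ.f ≫ Spec.map (CommRingCat.ofHom (algebraMap k A))
    rw [Category.assoc, ← Spec.map_comp, h1, Spec.map_comp, Spec.map_comp, Category.assoc,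
      ← Scheme.toSpecΓ_naturality_assoc, toSpecΓ_SpecMap_ΓSpecIso_inv_assoc]

end Groth.Agent.H61.DefAlg
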