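import Mathlib
import Groth.Prelude.Def_ArtFun4
import Groth.Agent.H61.DefAlg.RigidSch

set_option linter.style.haveILetI false
set_option linter.unusedSectionVars false

/-! The coordinate ring of a deformation of `Spec B₀`, as an `A`-algebra with augmentation to `B₀`. -/

open AlgebraicGeometry CategoryTheory CategoryTheory.Limits Opposite TopologicalSpace

namespace Groth.Agent.H61.DefAlg

universe u

open ArtFun ArtFun.Art Groth.Agent.H61.AffThick

variable {k : Type u} [Field k] {B₀ : Type u} [CommRing B₀] [Algebra k B₀] {A : Art k k}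

/-- the scheme `Spec B₀` with its structure map, as used in the statements. -/
noncomputable abbrev XB (k : Type u) [Field k] (B₀ : Type u) [CommRing B₀] [Algebra k B₀] : Scheme.{u} :=
  Spec (CommRingCat.of B₀)

noncomputable abbrev xB (k : Type u) [Field k] (B₀ : Type u) [CommRing B₀] [Algebra k B₀] :
    XB k B₀ ⟶ specPt k :=
  Spec.map (CommRingCat.ofHom (algebraMap k B₀))

/-- the coordinate ring of the total space. -/
def GRing (ξ : DefSch (XB k B₀) (xB k B₀) A) : Type u := Γ(ξ.total, ⊤)

variable (ξ : DefSch (XB k B₀) (xB k B₀) A)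

instance : CommRing (GRing ξ) := inferInstanceAs (CommRing Γ(ξ.total, ⊤))

noncomputable instance : Algebra A (GRing ξ) := (DefSch.φ ξ).toAlgebra

noncomputable instance : Algebra k (GRing ξ) := ((DefSch.φ ξ).comp (algebraMap k A)).toAlgebra

instance : IsScalarTower k A (GRing ξ) := IsScalarTower.of_algebraMap_eq (fun _ => rfl)

instance : Module.Flat A (GRing ξ) := DefSch.φ_flat ξ

lemma GRing.algebraMap_eq (a : A) : algebraMap A (GRing ξ) a = DefSch.φ ξ a := rfl

/-- the augmentation `Γ(total) → B₀`. -/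
noncomputable def πAlg : GRing ξ →ₐ[k] B₀ :=
  { (Scheme.ΓSpecIso (CommRingCat.of B₀)).hom.hom.comp ξ.i.appTop.hom with
    commutes' := fun c => by
      change (Scheme.ΓSpecIso (CommRingCat.of B₀)).hom.hom
        (ξ.i.appTop.hom (DefSch.φ ξ (algebraMap k A c))) = _
      rw [DefSch.i_appTop_φ, AlgHom.commutes]
      exact ConcreteCategory.congr_hom (Scheme.ΓSpecIso (CommRingCat.of B₀)).inv_hom_id _ }

lemma πAlg_apply (r : GRing ξ) :
    πAlg ξ r = (Scheme.ΓSpecIso (CommRingCat.of B₀)).hom.hom (ξ.i.appTop.hom r) := rfl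

lemma πAlg_surjective : Function.Surjective (πAlg ξ) :=
  (ConcreteCategory.bijective_of_isIso (Scheme.ΓSpecIso (CommRingCat.of B₀)).hom).surjective.comp
    (DefSch.i_appTop_surjective ξ)

lemma ker_πAlg : RingHom.ker (πAlg ξ).toRingHom =
    (IsLocalRing.maximalIdeal A).map (algebraMap A (GRing ξ)) := by
  ext z
  rw [RingHom.mem_ker]
  have h1 : (πAlg ξ).toRingHom z = 0 ↔ ξ.i.appTop.hom z = 0 := by
    change (Scheme.ΓSpecIso (CommRingCat.of B₀)).hom.hom (ξ.i.appTop.hom z) = 0 ↔ _
    constructor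
    · intro h
      exact (ConcreteCategory.bijective_of_isIso (Scheme.ΓSpecIso (CommRingCat.of B₀)).hom).injective
        (h.trans (map_zero _).symm)
    · intro h; rw [h, map_zero]
  rw [h1]
  have h2 := DefSch.ker_i_appTop ξ
  have h3 : (z ∈ (IsLocalRing.maximalIdeal A).map (algebraMap A (GRing ξ))) ↔
      z ∈ (IsLocalRing.maximalIdeal A).map (DefSch.φ ξ) := Iff.rfl
  rw [h3, ← h2]
  exact Iff.rfl

/-- compatibility of the augmentation with the `A`-algebra structure. -/
lemma πAlg_algebraMap (a : A) : πAlg ξ (algebraMap A (GRing ξ) a) = algebraMap k B₀ (A.res a) := by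
  change (Scheme.ΓSpecIso (CommRingCat.of B₀)).hom.hom (ξ.i.appTop.hom (DefSch.φ ξ a)) = _
  rw [DefSch.i_appTop_φ]
  exact ConcreteCategory.congr_hom (Scheme.ΓSpecIso (CommRingCat.of B₀)).inv_hom_id _

end Groth.Agent.H61.DefAlg
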