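import Mathlib
import Groth.Prelude.Def_ArtFun4
import Groth.Agent.H61.DefAlg.GRing

set_option linter.style.haveILetI false
set_option linter.unusedSectionVars false

/-! Building a deformation of `Spec B₀` from ring data. -/

open AlgebraicGeometry CategoryTheory CategoryTheory.Limits Opposite TopologicalSpace

namespace Groth.Agent.H61.DefAlg

universe u

open ArtFun ArtFun.Art Groth.Agent.H61.AffThick

variable {k : Type u} [Field k] {B₀ : Type u} [CommRing B₀] [Algebra k B₀] {A : Art k k}
  {E : Type u} [CommRing E] (φ : A →+* E) (π : E →+* B₀)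

/-- the ring-level pushout square. -/
theorem isPushout_of_ker (hπ : Function.Surjective π)
    (hcomp : ∀ a, π (φ a) = algebraMap k B₀ (A.res a))
    (hker : RingHom.ker π = (IsLocalRing.maximalIdeal A).map φ) :
    IsPushout (CommRingCat.ofHom φ) (CommRingCat.ofHom A.res.toRingHom)
      (CommRingCat.ofHom π) (CommRingCat.ofHom (algebraMap k B₀)) := by
  have w : CommRingCat.ofHom φ ≫ CommRingCat.ofHom π =
      CommRingCat.ofHom A.res.toRingHom ≫ CommRingCat.ofHom (algebraMap k B₀) := by
    ext a
    exact hcomp a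
  -- the descent map
  have hle : ∀ s : PushoutCocone (CommRingCat.ofHom φ) (CommRingCat.ofHom A.res.toRingHom),
      RingHom.ker π ≤ RingHom.ker s.inl.hom := by
    intro s
    rw [hker, Ideal.map_le_iff_le_comap]
    intro a ha
    rw [Ideal.mem_comap, RingHom.mem_ker]
    have h1 := ConcreteCategory.congr_hom s.condition a
    have h2 : s.inl.hom (φ a) = s.inr.hom (A.res a) := h1
    rw [h2, (mem_maximalIdeal_iff A a).mp ha, map_zero]
  let desc : ∀ s : PushoutCocone (CommRingCat.ofHom φ) (CommRingCat.ofHom A.res.toRingHom),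
      CommRingCat.of B₀ ⟶ s.pt := fun s =>
    CommRingCat.ofHom (RingHom.liftOfSurjective π hπ ⟨s.inl.hom, hle s⟩)
  have hdesc : ∀ s e, (desc s).hom (π e) = s.inl.hom e := fun s e =>
    RingHom.liftOfSurjective_comp_apply π hπ ⟨s.inl.hom, hle s⟩ e
  refine IsPushout.of_isColimit (PushoutCocone.IsColimit.mk w desc ?_ ?_ ?_)
  · intro s
    ext e
    exact hdesc s e
  · intro s
    ext c
    obtain ⟨a, rfl⟩ := A.res_surjective c
    change (desc s).hom (algebraMap k B₀ (A.res a)) = s.inr.hom (A.res a)
    rw [← hcomp, hdesc]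
    exact ConcreteCategory.congr_hom s.condition a
  · intro s m hm _
    ext b
    obtain ⟨e, rfl⟩ := hπ b
    change m.hom (π e) = (desc s).hom (π e)
    rw [hdesc]
    exact ConcreteCategory.congr_hom hm e

/-- the deformation of `Spec B₀` built from ring data. -/
noncomputable def build (hφ : φ.Flat) (hπ : Function.Surjective π)
    (hcomp : ∀ a, π (φ a) = algebraMap k B₀ (A.res a))
    (hker : RingHom.ker π = (IsLocalRing.maximalIdeal A).map φ) :
    DefSch (XB k B₀) (xB k B₀) A where
  total := Spec (CommRingCat.of E)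
  f := Spec.map (CommRingCat.ofHom φ)
  flat := Flat.SpecMap_iff.mpr hφ
  i := Spec.map (CommRingCat.ofHom π)
  isPullback := isPullback_SpecMap_of_isPushout _ _ _ _ (isPushout_of_ker φ π hπ hcomp hker)


section buildLemmas

variable (hφ : φ.Flat) (hπ : Function.Surjective π)
    (hcomp : ∀ a, π (φ a) = algebraMap k B₀ (A.res a))
    (hker : RingHom.ker π = (IsLocalRing.maximalIdeal A).map φ)

/-- the identification of the coordinate ring of `build` with `E`. -/
noncomputable def buildEquiv : GRing (build φ π hφ hπ hcomp hker) ≃+* E :=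
  (Scheme.ΓSpecIso (CommRingCat.of E)).commRingCatIsoToRingEquiv

lemma buildEquiv_apply (z : GRing (build φ π hφ hπ hcomp hker)) :
    buildEquiv φ π hφ hπ hcomp hker z = (Scheme.ΓSpecIso (CommRingCat.of E)).hom.hom z := rfl

lemma buildEquiv_algebraMap (a : A) :
    buildEquiv φ π hφ hπ hcomp hker (algebraMap A (GRing (build φ π hφ hπ hcomp hker)) a) = φ a := by
  rw [buildEquiv_apply]
  change (Scheme.ΓSpecIso (CommRingCat.of E)).hom.hom
    ((Spec.map (CommRingCat.ofHom φ)).appTop.hom
      ((Scheme.ΓSpecIso (CommRingCat.of A)).inv.hom a)) = φ a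
  have h1 : (Scheme.ΓSpecIso (CommRingCat.of E)).hom.hom
      ((Spec.map (CommRingCat.ofHom φ)).appTop.hom
        ((Scheme.ΓSpecIso (CommRingCat.of A)).inv.hom a)) =
      φ ((Scheme.ΓSpecIso (CommRingCat.of A)).hom.hom
        ((Scheme.ΓSpecIso (CommRingCat.of A)).inv.hom a)) :=
    ConcreteCategory.congr_hom (Scheme.ΓSpecIso_naturality (CommRingCat.ofHom φ))
      ((Scheme.ΓSpecIso (CommRingCat.of A)).inv.hom a)
  have h2 : (Scheme.ΓSpecIso (CommRingCat.of A)).hom.hom
      ((Scheme.ΓSpecIso (CommRingCat.of A)).inv.hom a) = a :=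
    ConcreteCategory.congr_hom (Scheme.ΓSpecIso (CommRingCat.of A)).inv_hom_id a
  rw [h1, h2]

lemma π_buildEquiv (z : GRing (build φ π hφ hπ hcomp hker)) :
    π (buildEquiv φ π hφ hπ hcomp hker z) = πAlg (build φ π hφ hπ hcomp hker) z := by
  rw [buildEquiv_apply, πAlg_apply]
  have h1 : (Scheme.ΓSpecIso (CommRingCat.of B₀)).hom.hom
      ((Spec.map (CommRingCat.ofHom π)).appTop.hom z) =
      π ((Scheme.ΓSpecIso (CommRingCat.of E)).hom.hom z) :=
    ConcreteCategory.congr_hom (Scheme.ΓSpecIso_naturality (CommRingCat.ofHom π)) z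
  exact h1.symm

end buildLemmas

end Groth.Agent.H61.DefAlg
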