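import Mathlib
import Groth.Prelude.Def_ArtFun4
import Groth.Agent.H61.DefAlg.Dict

set_option linter.style.haveILetI false
set_option linter.unusedSectionVars false

/-! Morphisms (hence isomorphisms) of deformations of an affine scheme from ring maps. -/

open AlgebraicGeometry CategoryTheory CategoryTheory.Limits Opposite TopologicalSpace

namespace Groth.Agent.H61.DefAlg

universe u

open ArtFun ArtFun.Art Groth.Agent.H61.AffThick

variable {Λ : Type u} {k : Type u} [CommRing Λ] [Field k] [Algebra Λ k]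
variable {X : Scheme.{u}} {x : X ⟶ specPt k} {A : Art Λ k}

/-- a compatible ring map on global sections gives an isomorphism of deformations. -/
theorem nonempty_iso_of_ringHom [IsAffine X] (ξ ξ' : DefSch X x A)
    (θ : Γ(ξ.total, ⊤) ⟶ Γ(ξ'.total, ⊤))
    (hf : ξ.f.appTop ≫ θ = ξ'.f.appTop) (hi : θ ≫ ξ'.i.appTop = ξ.i.appTop) :
    Nonempty (ξ'.Iso ξ) := by
  haveI := DefSch.isAffine_total ξ
  haveI := DefSch.isAffine_total ξ'
  let ψ : ξ'.total ⟶ ξ.total := ξ'.total.toSpecΓ ≫ Spec.map θ ≫ ξ.total.isoSpec.inv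
  have h1 : ψ ≫ ξ.f = ξ'.f := by
    change (ξ'.total.toSpecΓ ≫ Spec.map θ ≫ ξ.total.isoSpec.inv) ≫ ξ.f = ξ'.f
    rw [Category.assoc, Category.assoc, ← Scheme.isoSpec_inv_naturality, ← Spec.map_comp_assoc, hf,
      ← Scheme.toSpecΓ_naturality_assoc, Scheme.toSpecΓ_isoSpec_inv, Category.comp_id]
  have h2 : ξ'.i ≫ ψ = ξ.i := by
    change ξ'.i ≫ ξ'.total.toSpecΓ ≫ Spec.map θ ≫ ξ.total.isoSpec.inv = ξ.i
    rw [Scheme.toSpecΓ_naturality_assoc, ← Spec.map_comp_assoc, hi,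
      ← Scheme.toSpecΓ_naturality_assoc, Scheme.toSpecΓ_isoSpec_inv, Category.comp_id]
  haveI : IsIso ψ := DefSch.isIso_of_hom ψ h1 h2
  exact ⟨⟨asIso ψ, h1, h2⟩⟩

end Groth.Agent.H61.DefAlg
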