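import Mathlib
import Groth.Prelude.Def_ArtFun4
import Groth.Prelude.Def_Exal
import Groth.Agent.H61.DefAlg.GRing
import Groth.Agent.H61.DefAlg.HomOfRing
import Groth.Agent.H61.DefAlg.FlatColon

set_option linter.style.haveILetI false
set_option linter.unusedSectionVars false

/-! First-order deformations of `Spec B` and extensions of `B` by `B`. -/

open AlgebraicGeometry CategoryTheory CategoryTheory.Limits Opposite TopologicalSpace

namespace Groth.Agent.H61.DefAlg

universe u

open ArtFun ArtFun.Art Groth.Agent.H61.AffThick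

variable {k : Type u} [Field k] {B : Type u} [CommRing B] [Algebra k B]

/-- `ε` as an element of the object `Art.dual k k`. -/
def epsD (k : Type u) [Field k] : (Art.dual k k : Art k k) := (DualNumber.eps : DualNumber k)

lemma maximalIdeal_dual : IsLocalRing.maximalIdeal (Art.dual k k : Art k k) = Ideal.span {epsD k} :=
  DualNumber.maximalIdeal_eq_span_singleton_eps (K := k)

lemma epsD_mul_self : epsD k * epsD k = 0 := DualNumber.eps_mul_eps (R := k)

lemma epsD_ne_zero : epsD k ≠ 0 := by
  intro h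
  have := congrArg TrivSqZeroExt.snd h
  change (1 : k) = 0 at this
  exact one_ne_zero this

lemma res_epsD : (Art.dual k k : Art k k).res (epsD k) = 0 := rfl

variable (ξ : DefSch (XB k B) (xB k B) (Art.dual k k))

/-- the image of `ε` in the coordinate ring. -/
noncomputable def epsR : GRing ξ := algebraMap (Art.dual k k : Art k k) (GRing ξ) (epsD k)

lemma epsR_mul_self : epsR ξ * epsR ξ = 0 := by
  unfold epsR
  rw [← map_mul, epsD_mul_self, map_zero]

lemma π_epsR : πAlg ξ (epsR ξ) = 0 := by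
  unfold epsR
  rw [πAlg_algebraMap, res_epsD, map_zero]

lemma π_eq_zero_iff (z : GRing ξ) : πAlg ξ z = 0 ↔ ∃ y, z = epsR ξ * y := by
  have h1 : πAlg ξ z = 0 ↔ z ∈ RingHom.ker (πAlg ξ).toRingHom := Iff.rfl
  rw [h1, ker_πAlg, maximalIdeal_dual, Ideal.map_span, Set.image_singleton,
    Ideal.mem_span_singleton']
  constructor
  · rintro ⟨y, rfl⟩; exact ⟨y, mul_comm _ _⟩
  · rintro ⟨y, rfl⟩; exact ⟨y, mul_comm _ _⟩

/-- flatness: `ε y = 0` forces `y` into the kernel of the augmentation. -/
lemma π_eq_zero_of_epsR_mul (y : GRing ξ) (h : epsR ξ * y = 0) : πAlg ξ y = 0 := by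
  have h1 : epsD k • y ∈ (⊥ : Ideal (Art.dual k k : Art k k)) • (⊤ : Submodule (Art.dual k k : Art k k) (GRing ξ)) := by
    rw [Submodule.bot_smul, Submodule.mem_bot, Algebra.smul_def]
    exact h
  have h2 := mem_colon_smul_top_of_flat ⊥ (epsD k) y h1
  have h3 : colon (⊥ : Ideal (Art.dual k k : Art k k)) (epsD k) ≤
      IsLocalRing.maximalIdeal (Art.dual k k : Art k k) := by
    apply IsLocalRing.le_maximalIdeal
    intro htop
    have : (1 : (Art.dual k k : Art k k)) ∈ colon ⊥ (epsD k) := by rw [htop]; trivial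
    rw [mem_colon, mul_one, Ideal.mem_bot] at this
    exact epsD_ne_zero this
  have h4 := Submodule.smul_mono_left h3 h2
  rw [Ideal.smul_top_eq_map, Submodule.restrictScalars_mem, ← ker_πAlg] at h4
  exact h4


/-- the inclusion `B → Γ(total)`, `b ↦ ε · (lift of b)`. -/
noncomputable def inclFun (b : B) : GRing ξ := epsR ξ * Function.surjInv (πAlg_surjective ξ) b

lemma inclFun_π (y : GRing ξ) : inclFun ξ (πAlg ξ y) = epsR ξ * y := by
  unfold inclFun
  have h1 : πAlg ξ (Function.surjInv (πAlg_surjective ξ) (πAlg ξ y) - y) = 0 := by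
    rw [map_sub, Function.surjInv_eq (πAlg_surjective ξ), sub_self]
  obtain ⟨w, hw⟩ := (π_eq_zero_iff ξ _).mp h1
  have h2 : epsR ξ * (Function.surjInv (πAlg_surjective ξ) (πAlg ξ y) - y) = 0 := by
    rw [hw, ← mul_assoc, epsR_mul_self, zero_mul]
  rw [mul_sub, sub_eq_zero] at h2
  exact h2

/-- the inclusion as an additive map. -/
noncomputable def incl : B →+ GRing ξ where
  toFun := inclFun ξ
  map_zero' := by rw [← map_zero (πAlg ξ), inclFun_π, mul_zero]
  map_add' a b := by
    obtain ⟨ya, rfl⟩ := πAlg_surjective ξ a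
    obtain ⟨yb, rfl⟩ := πAlg_surjective ξ b
    rw [← map_add, inclFun_π, inclFun_π, inclFun_π, mul_add]

lemma incl_π (y : GRing ξ) : incl ξ (πAlg ξ y) = epsR ξ * y := inclFun_π ξ y

/-- the extension of `B` by `B` attached to a first-order deformation. -/
noncomputable def toExt : Exal.Ext k B B where
  E := GRing ξ
  proj := πAlg ξ
  incl := incl ξ
  isExtension :=
    { proj_surjective := πAlg_surjective ξ
      incl_injective := by
        rw [injective_iff_map_eq_zero]
        intro b hb
        obtain ⟨y, rfl⟩ := πAlg_surjective ξ b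
        rw [incl_π] at hb
        exact π_eq_zero_of_epsR_mul ξ y hb
      exact := fun z => by
        constructor
        · intro hz
          obtain ⟨y, rfl⟩ := (π_eq_zero_iff ξ z).mp hz
          exact ⟨πAlg ξ y, incl_π ξ y⟩
        · rintro ⟨b, rfl⟩
          obtain ⟨y, rfl⟩ := πAlg_surjective ξ b
          rw [incl_π, map_mul, π_epsR, zero_mul]
      mul_incl := fun z b => by
        obtain ⟨y, rfl⟩ := πAlg_surjective ξ b
        rw [incl_π, smul_eq_mul, ← map_mul, incl_π]
        ring }

lemma toExt_proj (z : GRing ξ) : (toExt ξ).proj z = πAlg ξ z := rfl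

lemma toExt_incl_one : (toExt ξ).incl 1 = epsR ξ := by
  change incl ξ 1 = _
  rw [← map_one (πAlg ξ), incl_π, mul_one]

variable {ξ} {ξ' : DefSch (XB k B) (xB k B) (Art.dual k k)}

/-- a ring isomorphism compatible with structure maps and augmentations is an equivalence of
extensions. -/
noncomputable def equivOfRingEquiv (θ : GRing ξ ≃+* GRing ξ')
    (hA : ∀ a, θ (algebraMap (Art.dual k k : Art k k) (GRing ξ) a) =
      algebraMap (Art.dual k k : Art k k) (GRing ξ') a)
    (hπ : ∀ z, πAlg ξ' (θ z) = πAlg ξ z) : (toExt ξ).Equiv (toExt ξ') where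
  toAlgEquiv :=
    { θ with
      commutes' := fun c => by
        change θ (algebraMap (Art.dual k k : Art k k) (GRing ξ) (algebraMap k _ c)) =
          algebraMap (Art.dual k k : Art k k) (GRing ξ') (algebraMap k _ c)
        exact hA _ }
  proj_apply := fun z => hπ z
  apply_incl := fun b => by
    obtain ⟨y, rfl⟩ := πAlg_surjective ξ b
    change θ (incl ξ (πAlg ξ y)) = incl ξ' (πAlg ξ y)
    rw [incl_π, map_mul, ← hπ, incl_π]
    congr 1
    exact hA _


/-- (1) isomorphic deformations give equivalent extensions. -/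
theorem equiv_of_iso (I : ξ.Iso ξ') : Nonempty ((toExt ξ).Equiv (toExt ξ')) := by
  let θc : Γ(ξ.total, ⊤) ≅ Γ(ξ'.total, ⊤) :=
    { hom := I.iso.inv.appTop
      inv := I.iso.hom.appTop
      hom_inv_id := by
        rw [← Scheme.Hom.comp_appTop, I.iso.hom_inv_id]
        rfl
      inv_hom_id := by
        rw [← Scheme.Hom.comp_appTop, I.iso.inv_hom_id]
        rfl }
  let θ : GRing ξ ≃+* GRing ξ' := θc.commRingCatIsoToRingEquiv
  have hθ : ∀ z : GRing ξ, θ z = I.iso.inv.appTop.hom z := fun z => rfl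
  refine ⟨equivOfRingEquiv θ ?_ ?_⟩
  · intro a
    rw [hθ]
    have h1 : ξ.f.appTop ≫ I.iso.inv.appTop = ξ'.f.appTop := by
      rw [← Scheme.Hom.comp_appTop]
      exact congrArg Scheme.Hom.appTop (I.symm.hom_f : I.iso.inv ≫ ξ.f = ξ'.f)
    exact ConcreteCategory.congr_hom h1
      ((Scheme.ΓSpecIso (CommRingCat.of (Art.dual k k : Art k k))).inv.hom a)
  · intro z
    rw [hθ, πAlg_apply, πAlg_apply]
    have h1 : I.iso.inv.appTop ≫ ξ'.i.appTop = ξ.i.appTop := by
      rw [← Scheme.Hom.comp_appTop]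
      exact congrArg Scheme.Hom.appTop (I.symm.i_hom : ξ'.i ≫ I.iso.inv = ξ.i)
    have h2 := ConcreteCategory.congr_hom h1 z
    simp only [CommRingCat.comp_apply] at h2
    rw [h2]

lemma algebraMap_dual_eq (ξ : DefSch (XB k B) (xB k B) (Art.dual k k))
    (a : (Art.dual k k : Art k k)) :
    algebraMap (Art.dual k k : Art k k) (GRing ξ) a =
      algebraMap k (GRing ξ) (TrivSqZeroExt.fst (a : DualNumber k)) +
        (TrivSqZeroExt.snd (a : DualNumber k) : k) • epsR ξ := by
  have h1 : (a : DualNumber k) = algebraMap k (DualNumber k) (TrivSqZeroExt.fst (a : DualNumber k)) +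
      (TrivSqZeroExt.snd (a : DualNumber k) : k) • (DualNumber.eps : DualNumber k) := by
    rw [← DualNumber.inr_eq_smul_eps, TrivSqZeroExt.algebraMap_eq_inl,
      TrivSqZeroExt.inl_fst_add_inr_snd_eq]
  have h2 : a = algebraMap k (Art.dual k k : Art k k) (TrivSqZeroExt.fst (a : DualNumber k)) +
      (TrivSqZeroExt.snd (a : DualNumber k) : k) • epsD k := h1
  conv_lhs => rw [h2]
  rw [map_add, ← IsScalarTower.algebraMap_apply, Algebra.smul_def, map_mul,
    ← IsScalarTower.algebraMap_apply, Algebra.smul_def]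
  rfl

/-- (2) equivalent extensions come from isomorphic deformations. -/
theorem iso_of_equiv (e : (toExt ξ).Equiv (toExt ξ')) : Nonempty (ξ.Iso ξ') := by
  let θ : GRing ξ ≃ₐ[k] GRing ξ' := e.toAlgEquiv
  have hπ : ∀ z, πAlg ξ' (θ z) = πAlg ξ z := e.proj_apply
  have heps : θ (epsR ξ) = epsR ξ' := by
    rw [← toExt_incl_one, ← toExt_incl_one]
    exact e.apply_incl 1
  have hA : ∀ a, θ (algebraMap (Art.dual k k : Art k k) (GRing ξ) a) =
      algebraMap (Art.dual k k : Art k k) (GRing ξ') a := by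
    intro a
    rw [algebraMap_dual_eq, algebraMap_dual_eq, map_add, AlgEquiv.commutes, map_smul, heps]
  let θ' : Γ(ξ.total, ⊤) ⟶ Γ(ξ'.total, ⊤) := CommRingCat.ofHom (θ : GRing ξ →+* GRing ξ')
  have hf : ξ.f.appTop ≫ θ' = ξ'.f.appTop := by
    ext a'
    obtain ⟨a, rfl⟩ := (ConcreteCategory.bijective_of_isIso
      (Scheme.ΓSpecIso (CommRingCat.of (Art.dual k k : Art k k))).inv).2 a'
    exact hA a
  have hi : θ' ≫ ξ'.i.appTop = ξ.i.appTop := by
    ext z
    have := hπ z
    rw [πAlg_apply, πAlg_apply] at this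
    exact (ConcreteCategory.bijective_of_isIso (Scheme.ΓSpecIso (CommRingCat.of B)).hom).injective this
  obtain ⟨I⟩ := nonempty_iso_of_ringHom ξ ξ' θ' hf hi
  exact ⟨I.symm⟩

end Groth.Agent.H61.DefAlg
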