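import Mathlib
import Groth.Prelude.Def_ArtFun4
import Groth.Prelude.Def_Exal
import Groth.Agent.H61.DefAlg.ToExt
import Groth.Agent.H61.DefAlg.Build
import Groth.Agent.H61.DefAlg.FlatDual

set_option linter.style.haveILetI false
set_option linter.unusedSectionVars false

/-! Every extension of `B` by `B` comes from a first-order deformation of `Spec B`. -/

open AlgebraicGeometry CategoryTheory CategoryTheory.Limits Opposite TopologicalSpace

namespace Groth.Agent.H61.DefAlg

universe u

open ArtFun ArtFun.Art Groth.Agent.H61.AffThick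

variable {k : Type u} [Field k] {B : Type u} [CommRing B] [Algebra k B]

section
variable (X : Exal.Ext k B B)

lemma ext_proj_incl (b : B) : X.proj (X.incl b) = 0 :=
  (X.isExtension.exact _).mpr ⟨b, rfl⟩

lemma ext_mul_incl_one (y : X.E) : y * X.incl 1 = X.incl (X.proj y) := by
  rw [X.isExtension.mul_incl, smul_eq_mul, mul_one]

lemma ext_incl_one_sq : X.incl 1 * X.incl 1 = 0 := by
  rw [ext_mul_incl_one, ext_proj_incl, map_zero]

/-- the structure map `k[ε] → E`. -/
noncomputable def extφA : DualNumber k →ₐ[k] X.E :=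
  DualNumber.lift ⟨(Algebra.ofId k X.E, X.incl 1), ext_incl_one_sq X, fun _ => Commute.all _ _⟩

lemma extφA_apply (a : DualNumber k) :
    extφA X a = algebraMap k X.E a.fst + algebraMap k X.E a.snd * X.incl 1 :=
  DualNumber.lift_apply_apply _ a

lemma extφA_eps : extφA X DualNumber.eps = X.incl 1 := DualNumber.lift_apply_eps _

/-- the same map out of the object `Art.dual k k`. -/
noncomputable def extφ : (Art.dual k k : Art k k) →+* X.E := (extφA X).toRingHom

lemma extφ_epsD : extφ X (epsD k) = X.incl 1 := extφA_eps X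

lemma ext_comp (a : (Art.dual k k : Art k k)) :
    X.proj.toRingHom (extφ X a) = algebraMap k B ((Art.dual k k : Art k k).res a) := by
  change X.proj (extφA X a) = algebraMap k B (TrivSqZeroExt.fst (a : DualNumber k))
  rw [extφA_apply, map_add, map_mul, ext_proj_incl, mul_zero, add_zero, AlgHom.commutes]

lemma ext_ker : RingHom.ker X.proj.toRingHom =
    (IsLocalRing.maximalIdeal (Art.dual k k : Art k k)).map (extφ X) := by
  rw [maximalIdeal_dual, Ideal.map_span, Set.image_singleton, extφ_epsD]
  ext z
  rw [RingHom.mem_ker, Ideal.mem_span_singleton']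
  change X.proj z = 0 ↔ _
  rw [X.isExtension.exact]
  constructor
  · rintro ⟨b, rfl⟩
    obtain ⟨y, rfl⟩ := X.isExtension.proj_surjective b
    exact ⟨y, ext_mul_incl_one X y⟩
  · rintro ⟨y, rfl⟩
    exact ⟨X.proj y, (ext_mul_incl_one X y).symm⟩

lemma ext_flat : (extφ X).Flat := by
  letI : Algebra (DualNumber k) X.E := (extφA X).toRingHom.toAlgebra
  have hsm : ∀ (d : DualNumber k) (y : X.E), d • y = extφA X d * y := fun d y => rfl
  have : Module.Flat (DualNumber k) X.E := by
    apply flat_dualNumber_of
    intro y hy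
    rw [hsm, extφA_eps, mul_comm, ext_mul_incl_one] at hy
    have h0 : X.proj y = 0 := X.isExtension.incl_injective (hy.trans (map_zero _).symm)
    obtain ⟨b, rfl⟩ := (X.isExtension.exact y).mp h0
    obtain ⟨z, rfl⟩ := X.isExtension.proj_surjective b
    refine ⟨z, ?_⟩
    rw [hsm, extφA_eps, mul_comm, ext_mul_incl_one]
  exact this

/-- the deformation attached to an extension. -/
noncomputable def ofExt : DefSch (XB k B) (xB k B) (Art.dual k k) :=
  build (extφ X) X.proj.toRingHom (ext_flat X) X.isExtension.proj_surjective (ext_comp X)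
    (ext_ker X)

/-- (3) the extension attached to `ofExt X` is equivalent to `X`. -/
theorem toExt_ofExt : Nonempty ((toExt (ofExt X)).Equiv X) := by
  let Θ : GRing (ofExt X) ≃+* X.E :=
    buildEquiv (extφ X) X.proj.toRingHom (ext_flat X) X.isExtension.proj_surjective (ext_comp X)
      (ext_ker X)
  have hΘA : ∀ a, Θ (algebraMap (Art.dual k k : Art k k) (GRing (ofExt X)) a) = extφ X a :=
    buildEquiv_algebraMap _ _ _ _ _ _
  have hΘπ : ∀ z, X.proj (Θ z) = πAlg (ofExt X) z :=
    π_buildEquiv (extφ X) X.proj.toRingHom (ext_flat X) X.isExtension.proj_surjective (ext_comp X)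
      (ext_ker X)
  refine ⟨{ toAlgEquiv := { Θ with commutes' := ?_ }, proj_apply := ?_, apply_incl := ?_ }⟩
  · intro c
    change Θ (algebraMap (Art.dual k k : Art k k) (GRing (ofExt X))
      (algebraMap k (Art.dual k k : Art k k) c)) = algebraMap k X.E c
    rw [hΘA]
    exact (extφA X).commutes c
  · intro z
    exact hΘπ z
  · intro b
    obtain ⟨y, rfl⟩ := πAlg_surjective (ofExt X) b
    change Θ (incl (ofExt X) (πAlg (ofExt X) y)) = X.incl (πAlg (ofExt X) y)
    rw [incl_π, map_mul]
    have h1 : Θ (epsR (ofExt X)) = X.incl 1 := by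
      unfold epsR
      rw [hΘA, extφ_epsD]
    rw [h1, mul_comm, ext_mul_incl_one, hΘπ]

end

end Groth.Agent.H61.DefAlg
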