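import Mathlib
import Groth.Prelude.Def_ArtFun4
import Groth.Prelude.Def_Exal
import Groth.Agent.H61.DefAlg.OfExt
import Groth.Agent.H56.ExalT1

set_option linter.style.haveILetI false
set_option linter.unusedSectionVars false

/-! First-order deformations of `Spec B` are classified by `Exal_k(B, B) ≅ T¹(B/k, B)`. -/

open AlgebraicGeometry CategoryTheory CategoryTheory.Limits Opposite TopologicalSpace

namespace Groth.Agent.H61.DefAlg

universe u

open ArtFun ArtFun.Art

variable (k B : Type u) [Field k] [CommRing B] [Algebra k B]

theorem defDual_equiv_exalcom :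
    Nonempty ((ArtFun.defFunctor (Λ := k) (XB k B) (xB k B)).obj (Art.dual k k) ≃
      Exal.Exalcom k B B) := by
  let F : (ArtFun.defFunctor (Λ := k) (XB k B) (xB k B)).obj (Art.dual k k) → Exal.Exalcom k B B :=
    Quotient.map' toExt (fun ξ ξ' h => by
      obtain ⟨I⟩ := h
      exact equiv_of_iso I)
  have hF : Function.Bijective F := by
    constructor
    · intro a b
      induction a using Quotient.inductionOn with
      | _ ξ =>
        induction b using Quotient.inductionOn with
        | _ ξ' =>
          intro h
          have h' : Nonempty ((toExt ξ).Equiv (toExt ξ')) := Quotient.exact h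
          obtain ⟨e⟩ := h'
          exact Quotient.sound (iso_of_equiv e)
    · intro c
      induction c using Quotient.inductionOn with
      | _ X =>
        exact ⟨Quotient.mk _ (ofExt X), Quotient.sound (toExt_ofExt X)⟩
  exact ⟨Equiv.ofBijective F hF⟩

theorem defDual_equiv_T1 :
    Nonempty ((ArtFun.defFunctor (Λ := k) (Spec (CommRingCat.of B))
      (Spec.map (CommRingCat.ofHom (algebraMap k B)))).obj (Art.dual k k) ≃
      CotT.T1 (CotT.canon k B) B) := by
  obtain ⟨e₁⟩ := defDual_equiv_exalcom k B
  obtain ⟨e₂, -⟩ := Groth.Agent.H56.ExalT1.exists_equiv (CotT.canon k B) (M := B)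
  exact ⟨e₁.trans e₂⟩

end Groth.Agent.H61.DefAlg
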