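import Mathlib

set_option linter.style.haveILetI false
set_option linter.unusedSectionVars false

/-! Ring-level: sections of a first-order thickening of a formally smooth algebra compatible with
finitely many marked points. -/

open TrivSqZeroExt

namespace Groth.Agent.H61.DefAlg

universe u v

variable {k : Type u} [Field k] {B₀ R : Type u} [CommRing B₀] [Algebra k B₀] [CommRing R] [Algebra k R]

/-- modifying an algebra section by a derivation-like map into a square-zero ideal. -/
theorem exists_algHom_add (π : R →ₐ[k] B₀) (hsq : ∀ x y, π x = 0 → π y = 0 → x * y = 0)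
    (s₀ : B₀ →ₐ[k] R) (δ : B₀ →ₗ[k] R) (hδπ : ∀ b, π (δ b) = 0)
    (hδ1 : δ 1 = 0)
    (hδmul : ∀ a b, δ (a * b) = s₀ a * δ b + s₀ b * δ a) :
    ∃ s : B₀ →ₐ[k] R, ∀ b, s b = s₀ b + δ b := by
  refine ⟨AlgHom.ofLinearMap (s₀.toLinearMap + δ) ?_ ?_, fun b => rfl⟩
  · change s₀ 1 + δ 1 = 1
    rw [map_one, hδ1, add_zero]
  · intro a b
    change s₀ (a * b) + δ (a * b) = (s₀ a + δ a) * (s₀ b + δ b)
    rw [map_mul, hδmul]
    have := hsq _ _ (hδπ a) (hδπ b)
    linear_combination -this


section PtMod

variable {ι : Type v} (P : ι → B₀ →ₐ[k] k)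

/-- the `B₀`-module `∏ⱼ k` with `B₀` acting on the `j`-th factor through `P j`. -/
def PtMod (_ : ι → B₀ →ₐ[k] k) : Type (max u v) := ι → k

instance : AddCommGroup (PtMod P) := inferInstanceAs (AddCommGroup (ι → k))
instance : Module k (PtMod P) := inferInstanceAs (Module k (ι → k))
instance : Module B₀ (PtMod P) :=
  Module.compHom (ι → k) (Pi.ringHom fun j => (P j).toRingHom)

lemma PtMod.smul_apply (b : B₀) (m : PtMod P) (j : ι) : (b • m) j = P j b * m j := rfl

lemma PtMod.ksmul_apply (c : k) (m : PtMod P) (j : ι) : (c • m) j = c * m j := rfl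

lemma PtMod.add_apply (m m' : PtMod P) (j : ι) : (m + m') j = m j + m' j := rfl

instance : IsScalarTower k B₀ (PtMod P) := ⟨fun c b m => by
  funext j
  rw [PtMod.smul_apply, PtMod.ksmul_apply, PtMod.smul_apply, map_smul, smul_eq_mul, mul_assoc]⟩

/-- evaluation at the points. -/
def PtMod.ev : B₀ →ₗ[B₀] PtMod P where
  toFun b := fun j => P j b
  map_add' a b := by funext j; exact map_add (P j) a b
  map_smul' a b := by
    funext j
    change P j (a * b) = P j a * P j b
    exact map_mul (P j) a b

lemma PtMod.ev_surjective [Finite ι] (hP : Function.Injective P) :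
    Function.Surjective (PtMod.ev P) := by
  intro c
  have hmax : ∀ j, (RingHom.ker (P j).toRingHom).IsMaximal := fun j =>
    RingHom.ker_isMaximal_of_surjective (P j).toRingHom
      (fun c => ⟨algebraMap k B₀ c, (P j).commutes c⟩)
  have hne : ∀ j l, j ≠ l → RingHom.ker (P j).toRingHom ≠ RingHom.ker (P l).toRingHom := by
    intro j l hjl heq
    apply hjl
    apply hP
    ext b
    have h1 : b - algebraMap k B₀ (P j b) ∈ RingHom.ker (P j).toRingHom := by
      rw [RingHom.mem_ker]
      change P j (b - algebraMap k B₀ (P j b)) = 0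
      rw [map_sub, AlgHom.commutes]
      exact sub_self _
    rw [heq, RingHom.mem_ker] at h1
    change P l (b - algebraMap k B₀ (P j b)) = 0 at h1
    rw [map_sub, AlgHom.commutes, sub_eq_zero] at h1
    exact h1.symm
  have hcop : Pairwise (Function.onFun IsCoprime fun j => RingHom.ker (P j).toRingHom) := by
    intro j l hjl
    change IsCoprime _ _
    rw [Ideal.isCoprime_iff_sup_eq]
    exact (hmax j).coprime_of_ne (hmax l) (hne j l hjl)
  obtain ⟨r, hr⟩ := Ideal.exists_forall_sub_mem_ideal hcop (fun j => algebraMap k B₀ (c j))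
  refine ⟨r, ?_⟩
  funext j
  have := hr j
  rw [RingHom.mem_ker] at this
  change P j (r - algebraMap k B₀ (c j)) = 0 at this
  rw [map_sub, AlgHom.commutes, sub_eq_zero] at this
  exact this

end PtMod


/-- **Sections compatible with marked points.** -/
theorem exists_section_marked [Algebra.FormallySmooth k B₀] (π : R →ₐ[k] B₀)
    (hπ : Function.Surjective π) (hsq : ∀ x y, π x = 0 → π y = 0 → x * y = 0)
    (φ : DualNumber k →ₐ[k] R) (hπε : π (φ DualNumber.eps) = 0)
    {ι : Type v} [Finite ι] (P : ι → B₀ →ₐ[k] k) (hP : Function.Injective P)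
    (Q : ι → R →ₐ[k] DualNumber k) (hQφ : ∀ j d, Q j (φ d) = d)
    (hQP : ∀ j y, (Q j y).fst = P j (π y)) :
    ∃ s : B₀ →ₐ[k] R, (∀ b, π (s b) = b) ∧ ∀ j b, Q j (s b) = TrivSqZeroExt.inl (P j b) := by
  have hnil : IsNilpotent (RingHom.ker (π : R →+* B₀)) := by
    refine ⟨2, ?_⟩
    rw [pow_two, Ideal.zero_eq_bot, eq_bot_iff, Ideal.mul_le]
    intro x hx y hy
    rw [Ideal.mem_bot]
    exact hsq x y hx hy
  let s₀ := Algebra.FormallySmooth.liftOfSurjective (AlgHom.id k B₀) π hπ hnil
  have hs₀ : ∀ b, π (s₀ b) = b :=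
    Algebra.FormallySmooth.liftOfSurjective_apply (AlgHom.id k B₀) π hπ hnil
  -- the derivation recording the failure of compatibility
  let d' : Derivation k B₀ (PtMod P) :=
    { toFun := fun b => fun j => (Q j (s₀ b)).snd
      map_add' := fun a b => by
        funext j
        change (Q j (s₀ (a + b))).snd = (Q j (s₀ a)).snd + (Q j (s₀ b)).snd
        rw [map_add, map_add, TrivSqZeroExt.snd_add]
      map_smul' := fun c b => by
        funext j
        change (Q j (s₀ (c • b))).snd = c * (Q j (s₀ b)).snd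
        rw [map_smul, map_smul, TrivSqZeroExt.snd_smul, smul_eq_mul]
      map_one_eq_zero' := by
        funext j
        change (Q j (s₀ 1)).snd = 0
        rw [map_one, map_one, TrivSqZeroExt.snd_one]
      leibniz' := fun a b => by
        funext j
        change (Q j (s₀ (a * b))).snd =
          P j a * (Q j (s₀ b)).snd + P j b * (Q j (s₀ a)).snd
        rw [map_mul, map_mul, TrivSqZeroExt.snd_mul, hQP, hQP, hs₀, hs₀]
        simp only [smul_eq_mul, MulOpposite.smul_eq_mul_unop, MulOpposite.unop_op]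
        ring }
  have hd' : ∀ b j, d' b j = (Q j (s₀ b)).snd := fun b j => rfl
  obtain ⟨h, hh⟩ := Module.projective_lifting_property (PtMod.ev P) d'.liftKaehlerDifferential
    (PtMod.ev_surjective P hP)
  let D₀ : Derivation k B₀ B₀ := h.compDer (KaehlerDifferential.D k B₀)
  have hD₀ : ∀ b j, P j (D₀ b) = (Q j (s₀ b)).snd := by
    intro b j
    have h1 : PtMod.ev P (h (KaehlerDifferential.D k B₀ b)) = d' b := by
      have := LinearMap.congr_fun hh (KaehlerDifferential.D k B₀ b)
      rw [LinearMap.comp_apply, Derivation.liftKaehlerDifferential_comp_D] at this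
      exact this
    exact congrFun h1 j
  -- the correction
  let e : R := φ DualNumber.eps
  have hee : e * e = 0 := by
    change φ DualNumber.eps * φ DualNumber.eps = 0
    rw [← map_mul, DualNumber.eps_mul_eps, map_zero]
  let δ : B₀ →ₗ[k] R :=
    { toFun := fun b => -(e * s₀ (D₀ b))
      map_add' := fun a b => by rw [map_add, map_add, mul_add, neg_add]
      map_smul' := fun c b => by
        change -(e * s₀ (D₀ (c • b))) = c • -(e * s₀ (D₀ b))
        rw [D₀.map_smul, map_smul, mul_smul_comm, smul_neg] }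
  have hδ : ∀ b, δ b = -(e * s₀ (D₀ b)) := fun b => rfl
  obtain ⟨s, hs⟩ := exists_algHom_add π hsq s₀ δ
    (fun b => by rw [hδ, map_neg, map_mul, hπε, zero_mul, neg_zero])
    (by rw [hδ, Derivation.map_one_eq_zero, map_zero, mul_zero, neg_zero])
    (fun a b => by
      rw [hδ, hδ, hδ, Derivation.leibniz, map_add, smul_eq_mul, smul_eq_mul, map_mul, map_mul]
      ring)
  refine ⟨s, fun b => ?_, fun j b => ?_⟩
  · rw [hs, map_add, hs₀, hδ, map_neg, map_mul, hπε, zero_mul, neg_zero, add_zero]
  · rw [hs, map_add, hδ, map_neg, map_mul]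
    have h1 : Q j e = DualNumber.eps := hQφ j _
    rw [h1]
    apply TrivSqZeroExt.ext
    · rw [TrivSqZeroExt.fst_add, TrivSqZeroExt.fst_neg, TrivSqZeroExt.fst_mul, DualNumber.fst_eps,
        zero_mul, neg_zero, add_zero, hQP, hs₀, TrivSqZeroExt.fst_inl]
    · rw [TrivSqZeroExt.snd_add, TrivSqZeroExt.snd_neg, TrivSqZeroExt.snd_mul, DualNumber.fst_eps,
        DualNumber.snd_eps, hQP, hs₀, hD₀, TrivSqZeroExt.snd_inl]
      simp only [smul_eq_mul, MulOpposite.smul_eq_mul_unop, MulOpposite.unop_op]
      ring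

end Groth.Agent.H61.DefAlg
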