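import Mathlib
import Groth.Prelude.Def_ArtFun4
import Groth.Agent.H61.DefAlg.RigidSch

set_option linter.style.haveILetI false
set_option linter.unusedSectionVars false

/-! Deformations of an affine scheme with formally smooth coordinate ring are trivial. -/

open AlgebraicGeometry CategoryTheory CategoryTheory.Limits Opposite TopologicalSpace

namespace Groth.Agent.H61.DefAlg

universe u

open ArtFun ArtFun.Art Groth.Agent.H61.AffThick

variable {k : Type u} [Field k]

/-- Lemma 1: a ring-level section gives a retraction. -/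
theorem exists_retraction_of_section {X : Scheme.{u}} [IsAffine X] {x : X ⟶ specPt k}
    {A : Art k k} (ξ : DefSch X x A) (q : ξ.total ⟶ specPt k) (s : Γ(X, ⊤) ⟶ Γ(ξ.total, ⊤))
    (hs1 : s ≫ ξ.i.appTop = 𝟙 _)
    (hs2 : x.appTop ≫ s = q.appTop) :
    ∃ r : ξ.total ⟶ X, ξ.i ≫ r = 𝟙 X ∧ r ≫ x = q := by
  refine ⟨ξ.total.toSpecΓ ≫ Spec.map s ≫ X.isoSpec.inv, ?_, ?_⟩
  · rw [Scheme.toSpecΓ_naturality_assoc, ← Spec.map_comp_assoc, hs1, Spec.map_id, Category.id_comp]
    exact X.toSpecΓ_isoSpec_inv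
  · rw [Category.assoc, Category.assoc, ← Scheme.isoSpec_inv_naturality, ← Spec.map_comp_assoc, hs2,
      ← Scheme.toSpecΓ_naturality_assoc, Scheme.toSpecΓ_isoSpec_inv, Category.comp_id]


/-- the `k`-algebra structure on global sections of a `k`-scheme. -/
noncomputable abbrev algOfHom {Y : Scheme.{u}} (y : Y ⟶ specPt k) : Algebra k Γ(Y, ⊤) :=
  (y.appTop.hom.comp (Scheme.ΓSpecIso (CommRingCat.of k)).inv.hom).toAlgebra

/-- Lemma 2: deformations of an affine scheme with formally smooth coordinate ring are trivial. -/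
theorem nonempty_iso_trivial_of_formallySmooth {X : Scheme.{u}} [IsAffine X] {x : X ⟶ specPt k}
    (hx : Flat x) {A : Art k k} (ξ : DefSch X x A)
    (hsm : letI := algOfHom x; Algebra.FormallySmooth k Γ(X, ⊤)) :
    Nonempty (ξ.Iso (DefSch.trivial X x hx A)) := by
  let q : ξ.total ⟶ specPt k := ξ.f ≫ specMap (ofBase A)
  have hiq : ξ.i ≫ q = x := by
    change ξ.i ≫ ξ.f ≫ specMap (ofBase A) = x
    rw [← Category.assoc, ξ.i_f, Category.assoc, specRes_comp, comp_specRes_base]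
  letI algB : Algebra k Γ(X, ⊤) := algOfHom x
  letI algR : Algebra k Γ(ξ.total, ⊤) := algOfHom q
  haveI : Algebra.FormallySmooth k Γ(X, ⊤) := hsm
  let γ := (Scheme.ΓSpecIso (CommRingCat.of k)).inv.hom
  have hγ : Function.Surjective γ :=
    (ConcreteCategory.bijective_of_isIso (Scheme.ΓSpecIso (CommRingCat.of k)).inv).2
  have hcomm : ∀ c : k, ξ.i.appTop.hom (algebraMap k Γ(ξ.total, ⊤) c) = algebraMap k Γ(X, ⊤) c := by
    intro c
    change ξ.i.appTop.hom (q.appTop.hom (γ c)) = x.appTop.hom (γ c)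
    have h1 : q.appTop ≫ ξ.i.appTop = x.appTop := by
      rw [← Scheme.Hom.comp_appTop, hiq]
    exact ConcreteCategory.congr_hom h1 (γ c)
  let π : Γ(ξ.total, ⊤) →ₐ[k] Γ(X, ⊤) := { ξ.i.appTop.hom with commutes' := hcomm }
  have hπ : Function.Surjective π := DefSch.i_appTop_surjective ξ
  have hnil : IsNilpotent (RingHom.ker (π : Γ(ξ.total, ⊤) →+* Γ(X, ⊤))) := by
    have h1 : RingHom.ker (π : Γ(ξ.total, ⊤) →+* Γ(X, ⊤)) =
        (IsLocalRing.maximalIdeal A).map (DefSch.φ ξ) := DefSch.ker_i_appTop ξ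
    obtain ⟨n, hn⟩ := exists_nilpotent_maximalIdeal A
    refine ⟨n, ?_⟩
    rw [h1, ← Ideal.map_pow, hn]
    exact Ideal.map_bot
  let s := Algebra.FormallySmooth.liftOfSurjective (AlgHom.id k Γ(X, ⊤)) π hπ hnil
  have hs : ∀ b, π (s b) = b :=
    Algebra.FormallySmooth.liftOfSurjective_apply (AlgHom.id k Γ(X, ⊤)) π hπ hnil
  let s' : Γ(X, ⊤) ⟶ Γ(ξ.total, ⊤) := CommRingCat.ofHom s.toRingHom
  have hs1 : s' ≫ ξ.i.appTop = 𝟙 _ := by
    ext b
    exact hs b
  have hs2 : x.appTop ≫ s' = q.appTop := by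
    ext c'
    obtain ⟨c, rfl⟩ := hγ c'
    change s (algebraMap k Γ(X, ⊤) c) = algebraMap k Γ(ξ.total, ⊤) c
    exact s.commutes c
  obtain ⟨r, hr, hrx⟩ := exists_retraction_of_section ξ q s' hs1 hs2
  exact nonempty_iso_trivial_of_retraction hx ξ r hr hrx


/-- Lemma 1': a ring-level section gives a retraction inducing it on global sections. -/
theorem exists_retraction_of_section' {X : Scheme.{u}} [IsAffine X] {x : X ⟶ specPt k}
    {A : Art k k} (ξ : DefSch X x A) (q : ξ.total ⟶ specPt k) (s : Γ(X, ⊤) ⟶ Γ(ξ.total, ⊤))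
    (hs1 : s ≫ ξ.i.appTop = 𝟙 _)
    (hs2 : x.appTop ≫ s = q.appTop) :
    ∃ r : ξ.total ⟶ X, ξ.i ≫ r = 𝟙 X ∧ r ≫ x = q ∧ r.appTop = s := by
  haveI := DefSch.isAffine_total ξ
  refine ⟨ξ.total.toSpecΓ ≫ Spec.map s ≫ X.isoSpec.inv, ?_, ?_, ?_⟩
  · rw [Scheme.toSpecΓ_naturality_assoc, ← Spec.map_comp_assoc, hs1, Spec.map_id, Category.id_comp]
    exact X.toSpecΓ_isoSpec_inv
  · rw [Category.assoc, Category.assoc, ← Scheme.isoSpec_inv_naturality, ← Spec.map_comp_assoc, hs2,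
      ← Scheme.toSpecΓ_naturality_assoc, Scheme.toSpecΓ_isoSpec_inv, Category.comp_id]
  · apply Spec.map_injective
    rw [← cancel_epi ξ.total.toSpecΓ, ← Scheme.toSpecΓ_naturality, Category.assoc, Category.assoc,
      Scheme.isoSpec_inv_toSpecΓ, Category.comp_id]

/-- a retraction gives an isomorphism with the product, with prescribed first projection. -/
theorem exists_iso_pullback_of_retraction {X : Scheme.{u}} [IsAffine X] {x : X ⟶ specPt k}
    (hx : Flat x) {A : Art k k} (ξ : DefSch X x A) (r : ξ.total ⟶ X) (hr : ξ.i ≫ r = 𝟙 X)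
    (hrx : r ≫ x = ξ.f ≫ specMap (ofBase A)) :
    ∃ ψ : ξ.total ≅ pullback x (specMap (ofBase A)),
      ψ.hom ≫ pullback.snd x (specMap (ofBase A)) = ξ.f ∧
      ψ.hom ≫ pullback.fst x (specMap (ofBase A)) = r := by
  let ψ : ξ.total ⟶ pullback x (specMap (ofBase A)) := pullback.lift r ξ.f hrx
  have hf : ψ ≫ pullback.snd x (specMap (ofBase A)) = ξ.f := pullback.lift_snd _ _ _
  have hw : 𝟙 X ≫ x = (x ≫ specRes A) ≫ specMap (ofBase A) := by
    rw [Category.assoc, specRes_comp, Category.id_comp, comp_specRes_base]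
  have hi : ξ.i ≫ ψ = pullback.lift (𝟙 X) (x ≫ specRes A) hw := by
    apply pullback.hom_ext
    · rw [Category.assoc, pullback.lift_fst, hr, pullback.lift_fst]
    · rw [Category.assoc, pullback.lift_snd, ξ.i_f, pullback.lift_snd]
  have hf' : ψ ≫ (DefSch.trivial X x hx A).f = ξ.f := hf
  have hi' : ξ.i ≫ ψ = (DefSch.trivial X x hx A).i := hi
  have hiso := DefSch.isIso_of_hom (ξ' := DefSch.trivial X x hx A) ψ hf' hi'
  exact ⟨@asIso _ _ _ _ ψ hiso, hf, pullback.lift_fst _ _ _⟩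

end Groth.Agent.H61.DefAlg
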