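import Mathlib
import Groth.Prelude.Def_ArtFun4
import Groth.Agent.H61.DefAlg.SmoothRigid
import Groth.Agent.H61.DefAlg.Marked

set_option linter.style.haveILetI false
set_option linter.unusedSectionVars false

/-! First-order deformations of a smooth affine scheme with marked points are trivial. -/

open AlgebraicGeometry CategoryTheory CategoryTheory.Limits Opposite TopologicalSpace

namespace Groth.Agent.H61.DefAlg

universe u v

open ArtFun ArtFun.Art Groth.Agent.H61.AffThick

theorem marked_trivial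
    (k : Type u) [Field k] (X : Scheme.{u}) (hX : X ⟶ Spec (CommRingCat.of k)) [IsAffine X]
    [Smooth hX]
    {ι : Type v} [Finite ι] (p : ι → (Spec (CommRingCat.of k) ⟶ X)) (hp : ∀ j, p j ≫ hX = 𝟙 _)
    (hinj : Function.Injective p)
    (X' : Scheme.{u}) (g : X' ⟶ Spec (CommRingCat.of (DualNumber k))) [Flat g] (i : X ⟶ X')
    (hsq : IsPullback i hX g
      (Spec.map (CommRingCat.ofHom (TrivSqZeroExt.fstHom k k k).toRingHom)))
    (p' : ι → (Spec (CommRingCat.of (DualNumber k)) ⟶ X')) (hp' : ∀ j, p' j ≫ g = 𝟙 _)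
    (hpp' : ∀ j, p j ≫ i =
      Spec.map (CommRingCat.ofHom (TrivSqZeroExt.fstHom k k k).toRingHom) ≫ p' j) :
    ∃ φ : X' ≅ Limits.pullback hX (Spec.map (CommRingCat.ofHom (algebraMap k (DualNumber k)))),
      φ.hom ≫ Limits.pullback.snd hX
        (Spec.map (CommRingCat.ofHom (algebraMap k (DualNumber k)))) = g ∧
        i ≫ φ.hom ≫ Limits.pullback.fst hX
          (Spec.map (CommRingCat.ofHom (algebraMap k (DualNumber k)))) = 𝟙 X ∧
          ∀ j, p' j ≫ φ.hom ≫
              Limits.pullback.fst hX (Spec.map (CommRingCat.ofHom (algebraMap k (DualNumber k)))) =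
            Spec.map (CommRingCat.ofHom (algebraMap k (DualNumber k))) ≫ p j := by
  let A' : Art k k := Art.dual k k
  let ξ : DefSch X hX A' := { total := X', f := g, flat := ‹Flat g›, i := i, isPullback := hsq }
  have hx : Flat hX := inferInstance
  haveI := DefSch.isAffine_total ξ
  let q : X' ⟶ specPt k := g ≫ Spec.map (CommRingCat.ofHom (algebraMap k (DualNumber k)))
  have hqdef : q = ξ.f ≫ specMap (ofBase A') := rfl
  have hiq : i ≫ q = hX := by
    have : ξ.i ≫ ξ.f ≫ specMap (ofBase A') = hX := by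
      rw [← Category.assoc, ξ.i_f, Category.assoc, specRes_comp, comp_specRes_base]
    exact this
  letI algB : Algebra k Γ(X, ⊤) := algOfHom hX
  letI algR : Algebra k Γ(X', ⊤) := algOfHom q
  -- formal smoothness
  haveI hsm : Algebra.FormallySmooth k Γ(X, ⊤) := by
    have h1 : hX.appTop.hom.Smooth := HasRingHomProperty.appTop (P := @Smooth) hX inferInstance
    have h2 : (Scheme.ΓSpecIso (CommRingCat.of k)).inv.hom.Smooth :=
      RingHom.Smooth.of_bijective
        (ConcreteCategory.bijective_of_isIso (Scheme.ΓSpecIso (CommRingCat.of k)).inv)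
    have h3 : (hX.appTop.hom.comp (Scheme.ΓSpecIso (CommRingCat.of k)).inv.hom).Smooth :=
      RingHom.Smooth.comp h2 h1
    have h4 : Algebra.Smooth k Γ(X, ⊤) := h3
    exact h4.formallySmooth
  let γ := (Scheme.ΓSpecIso (CommRingCat.of k)).inv.hom
  let γD := (Scheme.ΓSpecIso (CommRingCat.of (DualNumber k))).inv.hom
  let ek := Scheme.ΓSpecIso (CommRingCat.of k)
  let eD := Scheme.ΓSpecIso (CommRingCat.of (DualNumber k))
  have hγ : Function.Surjective γ := (ConcreteCategory.bijective_of_isIso ek.inv).2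
  have hek : ∀ c : k, ek.hom.hom (γ c) = c := fun c => by
    exact ConcreteCategory.congr_hom ek.inv_hom_id c
  have heD : ∀ d : DualNumber k, eD.hom.hom (γD d) = d := fun d => by
    exact ConcreteCategory.congr_hom eD.inv_hom_id d
  have heDinj : Function.Injective eD.hom.hom := (ConcreteCategory.bijective_of_isIso eD.hom).1
  -- π
  have hcomm : ∀ c : k, i.appTop.hom (algebraMap k Γ(X', ⊤) c) = algebraMap k Γ(X, ⊤) c := by
    intro c
    change i.appTop.hom (q.appTop.hom (γ c)) = hX.appTop.hom (γ c)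
    have h1 : q.appTop ≫ i.appTop = hX.appTop := by
      rw [← Scheme.Hom.comp_appTop, hiq]
    exact ConcreteCategory.congr_hom h1 (γ c)
  let π : Γ(X', ⊤) →ₐ[k] Γ(X, ⊤) := { i.appTop.hom with commutes' := hcomm }
  have hπ : Function.Surjective π := DefSch.i_appTop_surjective ξ
  have hkerπ : ∀ y, π y = 0 ↔ y ∈ (IsLocalRing.maximalIdeal A').map (DefSch.φ ξ) := by
    intro y
    rw [← DefSch.ker_i_appTop ξ, RingHom.mem_ker]
    rfl
  have hm2' : (IsLocalRing.maximalIdeal (DualNumber k)) ^ 2 = ⊥ := by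
    rw [DualNumber.maximalIdeal_eq_span_singleton_eps, Ideal.span_singleton_pow, pow_two,
      DualNumber.eps_mul_eps]
    exact Ideal.span_singleton_eq_bot.mpr rfl
  have hm2 : (IsLocalRing.maximalIdeal A') ^ 2 = ⊥ := hm2'
  have hsqz : ∀ x y, π x = 0 → π y = 0 → x * y = 0 := by
    intro x y hx hy
    rw [hkerπ] at hx hy
    have h1 : x * y ∈ ((IsLocalRing.maximalIdeal A') ^ 2).map (DefSch.φ ξ) := by
      rw [Ideal.map_pow, pow_two]
      exact Ideal.mul_mem_mul hx hy
    rw [hm2, Ideal.map_bot] at h1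
    exact h1
  -- φ
  have hφk : ∀ c : k, DefSch.φ ξ (algebraMap k (DualNumber k) c) = algebraMap k Γ(X', ⊤) c := by
    intro c
    change g.appTop.hom (γD (algebraMap k (DualNumber k) c)) =
      q.appTop.hom (γ c)
    have h1 := ConcreteCategory.congr_hom
      (Scheme.ΓSpecIso_inv_naturality (CommRingCat.ofHom (algebraMap k (DualNumber k)))) c
    simp only [CommRingCat.comp_apply] at h1
    have h2 : q.appTop = (Spec.map (CommRingCat.ofHom (algebraMap k (DualNumber k)))).appTop ≫
        g.appTop := Scheme.Hom.comp_appTop _ _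
    rw [h2]
    change _ = g.appTop.hom ((Spec.map (CommRingCat.ofHom (algebraMap k (DualNumber k)))).appTop.hom
      (γ c))
    congr 1
  let φ : DualNumber k →ₐ[k] Γ(X', ⊤) := { DefSch.φ ξ with commutes' := hφk }
  have hπε : π (φ DualNumber.eps) = 0 := by
    rw [hkerπ]
    apply Ideal.mem_map_of_mem
    have : (DualNumber.eps : DualNumber k) ∈ IsLocalRing.maximalIdeal (DualNumber k) := by
      rw [DualNumber.maximalIdeal_eq_span_singleton_eps]
      exact Ideal.subset_span rfl
    exact this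
  -- the points
  have hPcomm : ∀ (j : ι) (c : k), ek.hom.hom ((p j).appTop.hom (algebraMap k Γ(X, ⊤) c)) = c := by
    intro j c
    change ek.hom.hom ((p j).appTop.hom (hX.appTop.hom (γ c))) = c
    have h1 : hX.appTop ≫ (p j).appTop = 𝟙 _ := by
      rw [← Scheme.Hom.comp_appTop, hp j]
      rfl
    have h2 := ConcreteCategory.congr_hom h1 (γ c)
    simp only [CommRingCat.comp_apply] at h2
    rw [h2]
    exact hek c
  let P : ι → Γ(X, ⊤) →ₐ[k] k := fun j =>
    { ek.hom.hom.comp (p j).appTop.hom with commutes' := hPcomm j }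
  have hP : Function.Injective P := by
    intro j l hjl
    apply hinj
    apply ext_of_isAffine
    ext b
    have h1 : ek.hom.hom ((p j).appTop.hom b) = ek.hom.hom ((p l).appTop.hom b) :=
      congrArg (fun f : Γ(X, ⊤) →ₐ[k] k => f b) hjl
    exact (ConcreteCategory.bijective_of_isIso ek.hom).1 h1
  have hQφ0 : ∀ (j : ι) (d : DualNumber k),
      eD.hom.hom ((p' j).appTop.hom (DefSch.φ ξ d)) = d := by
    intro j d
    change eD.hom.hom ((p' j).appTop.hom (g.appTop.hom (γD d))) = d
    have h1 : g.appTop ≫ (p' j).appTop = 𝟙 _ := by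
      rw [← Scheme.Hom.comp_appTop, hp' j]
      rfl
    have h2 := ConcreteCategory.congr_hom h1 (γD d)
    simp only [CommRingCat.comp_apply] at h2
    rw [h2]
    exact heD d
  have hQcomm : ∀ (j : ι) (c : k),
      eD.hom.hom ((p' j).appTop.hom (algebraMap k Γ(X', ⊤) c)) = algebraMap k (DualNumber k) c := by
    intro j c
    rw [← hφk]
    exact hQφ0 j _
  let Q : ι → Γ(X', ⊤) →ₐ[k] DualNumber k := fun j =>
    { eD.hom.hom.comp (p' j).appTop.hom with commutes' := hQcomm j }
  have hQφ : ∀ j d, Q j (φ d) = d := hQφ0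
  have hQP : ∀ j y, (Q j y).fst = P j (π y) := by
    intro j y
    change (eD.hom.hom ((p' j).appTop.hom y)).fst = ek.hom.hom ((p j).appTop.hom (i.appTop.hom y))
    have h1 : i.appTop ≫ (p j).appTop = (p' j).appTop ≫
        (Spec.map (CommRingCat.ofHom (TrivSqZeroExt.fstHom k k k).toRingHom)).appTop := by
      rw [← Scheme.Hom.comp_appTop, ← Scheme.Hom.comp_appTop, hpp' j]
    have h2 := ConcreteCategory.congr_hom h1 y
    simp only [CommRingCat.comp_apply] at h2
    rw [h2]
    have h3 := ConcreteCategory.congr_hom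
      (Scheme.ΓSpecIso_naturality (CommRingCat.ofHom (TrivSqZeroExt.fstHom k k k).toRingHom))
      ((p' j).appTop.hom y)
    simp only [CommRingCat.comp_apply] at h3
    exact h3.symm
  obtain ⟨s, hs, hsQ⟩ := exists_section_marked π hπ hsqz φ hπε P hP Q hQφ hQP
  let s' : Γ(X, ⊤) ⟶ Γ(X', ⊤) := CommRingCat.ofHom s.toRingHom
  have hs1 : s' ≫ ξ.i.appTop = 𝟙 _ := by
    ext b
    exact hs b
  have hs2 : hX.appTop ≫ s' = q.appTop := by
    ext c'
    obtain ⟨c, rfl⟩ := hγ c'
    change s (algebraMap k Γ(X, ⊤) c) = algebraMap k Γ(X', ⊤) c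
    exact s.commutes c
  obtain ⟨r, hr, hrx, hrs⟩ := exists_retraction_of_section' ξ q s' hs1 hs2
  obtain ⟨ψ, hψ1, hψ2⟩ : ∃ ψ : X' ≅ Limits.pullback hX
      (Spec.map (CommRingCat.ofHom (algebraMap k (DualNumber k)))),
      ψ.hom ≫ Limits.pullback.snd hX
        (Spec.map (CommRingCat.ofHom (algebraMap k (DualNumber k)))) = g ∧
      ψ.hom ≫ Limits.pullback.fst hX
        (Spec.map (CommRingCat.ofHom (algebraMap k (DualNumber k)))) = r :=
    exists_iso_pullback_of_retraction hx ξ r hr hrx
  refine ⟨ψ, hψ1, ?_, ?_⟩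
  · rw [hψ2]
    exact hr
  · intro j
    rw [hψ2]
    apply ext_of_isAffine
    rw [Scheme.Hom.comp_appTop, Scheme.Hom.comp_appTop, hrs]
    ext b
    apply heDinj
    change Q j (s b) = eD.hom.hom
      ((Spec.map (CommRingCat.ofHom (algebraMap k (DualNumber k)))).appTop.hom
        ((p j).appTop.hom b))
    have h3 := ConcreteCategory.congr_hom
      (Scheme.ΓSpecIso_naturality (CommRingCat.ofHom (algebraMap k (DualNumber k))))
      ((p j).appTop.hom b)
    simp only [CommRingCat.comp_apply] at h3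
    rw [hsQ]
    exact h3.symm ▸ rfl

end Groth.Agent.H61.DefAlg
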