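import Mathlib
import Groth.Agent.H61.DefAlg.SmoothRigid
import Groth.Agent.H61.LS.RegSmoothGlobal

set_option linter.style.haveILetI false
set_option linter.unusedSectionVars false

/-! An affine scheme of finite type over an algebraically closed field with regular local rings has
formally smooth coordinate ring. -/

open AlgebraicGeometry CategoryTheory CategoryTheory.Limits Opposite TopologicalSpace

namespace Groth.Agent.H61.DefAlg

universe u

open ArtFun ArtFun.Art

variable {k : Type u} [Field k] [IsAlgClosed k]

theorem formallySmooth_of_regular_stalks {X : Scheme.{u}} [IsAffine X] (x : X ⟶ specPt k)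
    [LocallyOfFiniteType x] (hreg : ∀ p : X, IsRegularLocalRing (X.presheaf.stalk p)) :
    letI := algOfHom x; Algebra.FormallySmooth k Γ(X, ⊤) := by
  letI alg : Algebra k Γ(X, ⊤) := algOfHom x
  haveI hft : Algebra.FiniteType k Γ(X, ⊤) := by
    have h1 : x.appTop.hom.FiniteType :=
      HasRingHomProperty.appTop (P := @LocallyOfFiniteType) x inferInstance
    have h2 : (Scheme.ΓSpecIso (CommRingCat.of k)).inv.hom.FiniteType :=
      RingHom.FiniteType.of_surjective _
        (ConcreteCategory.bijective_of_isIso (Scheme.ΓSpecIso (CommRingCat.of k)).inv).2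
    exact RingHom.FiniteType.comp h1 h2
  refine Groth.Agent.H61.LS.formallySmooth_of_regular_maximal k Γ(X, ⊤) ?_
  intro m hm
  have hU := isAffineOpen_top X
  let y : PrimeSpectrum Γ(X, ⊤) := ⟨m, hm.isPrime⟩
  letI := TopCat.Presheaf.algebra_section_stalk X.presheaf
    (⟨hU.fromSpec y, trivial⟩ : (⊤ : X.Opens))
  haveI hloc : IsLocalization.AtPrime (X.presheaf.stalk (hU.fromSpec y)) m :=
    hU.isLocalization_stalk' y trivial
  haveI := hreg (hU.fromSpec y)
  exact IsRegularLocalRing.of_ringEquiv
    (IsLocalization.algEquiv m.primeCompl (X.presheaf.stalk (hU.fromSpec y))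
      (Localization.AtPrime m)).toRingEquiv

end Groth.Agent.H61.DefAlg
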